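import Cfsg.Agent.H89.Orbit.Basic

/-!
Derived lengths of completely reducible solvable groups: imprimitive modules, the section of a
primitive group, and the induction step.
-/

set_option autoImplicit false
set_option linter.style.haveILetI false
set_option linter.unusedSectionVars false

namespace H89.Orbit

open MulAction
open H27.Orbit (DlActs DlBound HasSect SectData dIn)
open H35.OddBase (IsCR IsIrr)

/-- The imprimitive case: a coarsest decomposition has primitively permuted parts. -/
theorem dl_imprimitive {G V : Type} [Group G] [Finite G] [AddCommGroup V] [Finite V]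
    [DistribMulAction G V] (hs : Group.IsSolvable G) (hirr : IsIrr G V)
    (hprim : ¬ H34.IsPrim (DistribMulAction.toAddMonoidEnd G V)) {r n b : ℕ} (hr : r.Prime)
    (hn : Nat.card V = r ^ n)
    (h : ∀ m j : ℕ, m * j = n → 2 ≤ m → 1 ≤ j → ∀ p k : ℕ, p.Prime → p ^ k = m →
      ∃ x y, DlBound p k x ∧ DlBound r j y ∧ 1 + x + y ≤ b) :
    DlActs G V b := by
  classical
  haveI := hirr.1
  haveI := hs
  set φ := DistribMulAction.toAddMonoidEnd G V
  -- a coarsest decomposition
  have hex : ∃ c, ∃ E : Finset (AddMonoid.End V), H34.IsDecomp φ E ∧ 1 < E.card ∧ E.card = c := by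
    unfold H34.IsPrim at hprim
    push Not at hprim
    obtain ⟨E, hE, hE2⟩ := hprim
    exact ⟨_, E, hE, hE2, rfl⟩
  obtain ⟨E, hE, hE2, hEc⟩ := Nat.find_spec hex
  have hcoarse : ∀ E' : Finset (AddMonoid.End V), H34.IsDecomp φ E' → 1 < E'.card →
      E.card ≤ E'.card := fun E' h1 h2 => hEc ▸ Nat.find_le ⟨E', h1, h2, rfl⟩
  let Ω := {e : AddMonoid.End V // e ∈ E}
  haveI : Finite Ω := Finite.of_fintype Ω
  letI : MulAction G Ω :=
    { smul := fun g e => ⟨φ g * e.1 * φ g⁻¹, hE.conj g e.1 e.2⟩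
      one_smul := fun e => Subtype.ext (H34.conj_one_arg φ e.1)
      mul_smul := fun g h e => Subtype.ext (H34.conj_conj φ g h e.1).symm }
  have hsm : ∀ (g : G) (e : Ω) (x : V), (g • e).1 (g • x) = g • e.1 x := fun g e x => by
    show g • e.1 (g⁻¹ • g • x) = g • e.1 x
    rw [inv_smul_smul]
  have hidem : ∀ (e : Ω) (x : V), e.1 (e.1 x) = e.1 x :=
    fun e x => DFunLike.congr_fun (hE.idem e.1 e.2) x
  have horth : ∀ (e f : Ω), e ≠ f → ∀ x : V, e.1 (f.1 x) = 0 := fun e f h x =>
    DFunLike.congr_fun (hE.orth e.1 e.2 f.1 f.2 fun h' => h (Subtype.ext h')) x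
  have hsum : ∀ x : V, ∑ e : Ω, e.1 x = x := fun x => by
    have h := DFunLike.congr_fun hE.sum_eq x
    rw [← Finset.sum_coe_sort] at h
    let ev : AddMonoid.End V →+ V := AddMonoidHom.mk' (fun f => f x) fun _ _ => rfl
    exact (map_sum ev (fun e : Ω => e.1) _).symm.trans h
  have hne : ∀ e : Ω, ∃ x, e.1 x ≠ 0 := fun e => by
    by_contra hh
    push Not at hh
    exact hE.ne_zero e.1 e.2 (AddMonoidHom.ext hh)
  obtain ⟨e₀, he₀⟩ : ∃ e, e ∈ E := Finset.card_pos.1 (by omega)
  let x₀ : Ω := ⟨e₀, he₀⟩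
  haveI : Nontrivial Ω := Fintype.one_lt_card_iff_nontrivial.1 (by rw [Fintype.card_coe]; exact hE2)
  -- transitivity
  haveI htrans : IsPretransitive G Ω := by
    refine ⟨fun a c => ?_⟩
    by_contra hac
    let U : AddSubgroup V :=
      { carrier := {v | ∀ e : Ω, (¬ ∃ g : G, g • a = e) → e.1 v = 0}
        zero_mem' := fun e _ => map_zero e.1
        add_mem' := fun {u v} hu hv e he => by rw [map_add, hu e he, hv e he, add_zero]
        neg_mem' := fun {u} hu e he => by rw [map_neg, hu e he, neg_zero] }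
    have hU : ∀ g : G, ∀ v ∈ U, g • v ∈ U := by
      intro g v hv e he
      have h1 := hsm g (g⁻¹ • e) v
      rw [smul_inv_smul] at h1
      rw [h1, hv (g⁻¹ • e) fun ⟨u, hu⟩ => he ⟨g * u, by rw [mul_smul, hu, smul_inv_smul]⟩, smul_zero]
    rcases hirr.2 U hU with h0 | h0
    · obtain ⟨x, hx⟩ := hne a
      refine hx (AddSubgroup.mem_bot.1 (h0 ▸ (show a.1 x ∈ U from fun e he => ?_)))
      exact horth e a (fun e' => he ⟨1, by rw [one_smul, e']⟩) x
    · obtain ⟨x, hx⟩ := hne c
      exact hx ((show c.1 x ∈ U from h0 ▸ AddSubgroup.mem_top _) c hac |> fun hh => by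
        rwa [hidem] at hh)
  set H := stabilizer G x₀ with hH
  have hHidx : H.index = Nat.card Ω := index_stabilizer_of_transitive G x₀
  -- maximality of the stabiliser
  have hmax : ∀ M : Subgroup G, stabilizer G x₀ < M → M = ⊤ := by
    intro M hM
    by_contra hMtop
    haveI : Fintype (G ⧸ M) := Fintype.ofFinite _
    choose rep hrep using fun e => exists_smul_eq G x₀ e
    let π : Ω → G ⧸ M := fun e => (rep e : G ⧸ M)
    have hπ : ∀ (g : G) (e : Ω), π (g • e) = g • π e := by
      intro g e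
      show (rep (g • e) : G ⧸ M) = g • (rep e : G ⧸ M)
      rw [MulAction.Quotient.smul_mk, QuotientGroup.eq]
      refine hM.le ?_
      rw [mem_stabilizer_iff, mul_smul, inv_smul_eq_iff, hrep, smul_eq_mul, mul_smul, hrep]
    have hπs : Function.Surjective π := fun y => by
      obtain ⟨g, rfl⟩ := QuotientGroup.mk_surjective y
      refine ⟨g • x₀, QuotientGroup.eq.2 (hM.le ?_)⟩
      rw [mem_stabilizer_iff, mul_smul, inv_smul_eq_iff, hrep]
    let F : G ⧸ M → AddMonoid.End V := fun y =>
      ∑ e ∈ Finset.univ.filter (fun e : Ω => π e = y), e.1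
    have hFe : ∀ (y : G ⧸ M) (e : Ω), e.1 * F y = if π e = y then e.1 else 0 := by
      intro y e
      simp only [F, Finset.mul_sum]
      rw [Finset.sum_congr rfl (fun f _ => show e.1 * f.1 = if e = f then e.1 else 0 by
        split_ifs with hef
        · subst hef; exact hE.idem e.1 e.2
        · exact hE.orth e.1 e.2 f.1 f.2 fun h' => hef (Subtype.ext h'))]
      rw [Finset.sum_ite_eq]
      simp
    have hFF : ∀ y y' : G ⧸ M, F y * F y' = if y = y' then F y else 0 := by
      intro y y'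
      show (∑ e ∈ Finset.univ.filter (fun e : Ω => π e = y), e.1) * F y' = _
      rw [Finset.sum_mul]
      rw [Finset.sum_congr rfl (fun e he => show e.1 * F y' = if y = y' then e.1 else 0 by
        rw [hFe, (Finset.mem_filter.1 he).2])]
      split_ifs
      · rfl
      · exact Finset.sum_const_zero
    have hFne : ∀ y, F y ≠ 0 := fun y h0 => by
      obtain ⟨e, rfl⟩ := hπs y
      have h1 := hFe (π e) e
      rw [h0, mul_zero, if_pos rfl] at h1
      exact hE.ne_zero e.1 e.2 h1.symm
    have hFinj : Function.Injective F := fun y y' hyy => by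
      by_contra hne'
      have h1 := hFF y y'
      rw [if_neg hne', ← hyy, hFF, if_pos rfl] at h1
      exact hFne y h1
    have hdec : H34.IsDecomp φ (Finset.univ.image F) := by
      refine ⟨?_, ?_, ?_, ?_, ?_⟩
      · intro f hf
        obtain ⟨y, -, rfl⟩ := Finset.mem_image.1 hf
        rw [hFF, if_pos rfl]
      · intro f hf
        obtain ⟨y, -, rfl⟩ := Finset.mem_image.1 hf
        exact hFne y
      · intro f hf f' hf' hne'
        obtain ⟨y, -, rfl⟩ := Finset.mem_image.1 hf
        obtain ⟨y', -, rfl⟩ := Finset.mem_image.1 hf'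
        rw [hFF, if_neg fun e => hne' (congrArg F e)]
      · rw [Finset.sum_image fun y _ y' _ e => hFinj e]
        rw [Finset.sum_fiberwise Finset.univ π fun e : Ω => e.1, ← hE.sum_eq]
        exact Finset.sum_coe_sort E fun e => e
      · intro g f hf
        obtain ⟨y, -, rfl⟩ := Finset.mem_image.1 hf
        refine Finset.mem_image.2 ⟨g • y, Finset.mem_univ _, ?_⟩
        simp only [F, Finset.mul_sum, Finset.sum_mul]
        refine (Finset.sum_equiv (MulAction.toPerm g) (fun e => ?_) fun e _ => rfl).symm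
        simp [hπ]
    have h1 : 1 < (Finset.univ.image F).card := by
      rw [Finset.card_image_of_injective _ hFinj, Finset.card_univ, ← Nat.card_eq_fintype_card]
      exact Subgroup.one_lt_index_of_ne_top hMtop
    have h2 := hcoarse _ hdec h1
    rw [Finset.card_image_of_injective _ hFinj, Finset.card_univ, ← Nat.card_eq_fintype_card] at h2
    haveI : H.FiniteIndex := ⟨by rw [hHidx]; exact Nat.card_pos.ne'⟩
    have h3 : M.index < H.index := Subgroup.index_strictAnti hM
    rw [hHidx, Nat.card_eq_fintype_card, Fintype.card_coe] at h3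
    change E.card ≤ M.index at h2
    omega
  obtain ⟨p, k, hp, hpk, hperm⟩ := dl_primitive hs x₀ hmax
  -- the parts
  let W : AddSubgroup V := (x₀.1 : V →+ V).eqLocus (AddMonoidHom.id V)
  have hWmem : ∀ x, x ∈ W ↔ x₀.1 x = x := fun _ => Iff.rfl
  have hWinv : ∀ (g : ↥H) (x : V), x ∈ W → (g : G) • x ∈ W := fun g x hx => by
    rw [hWmem] at hx ⊢
    have h := hsm g x₀ x
    rw [show (g : G) • x₀ = x₀ from g.2, hx] at h
    exact h
  letI : DistribMulAction ↥H ↥W :=
    { smul := fun g x => ⟨(g : G) • x.1, hWinv g x.1 x.2⟩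
      one_smul := fun x => Subtype.ext (one_smul G x.1)
      mul_smul := fun g h x => Subtype.ext (mul_smul (g : G) (h : G) x.1)
      smul_zero := fun g => Subtype.ext (smul_zero (g : G))
      smul_add := fun g x y => Subtype.ext (smul_add (g : G) x.1 y.1) }
  haveI : Nontrivial ↥W := by
    obtain ⟨x, hx⟩ := hne x₀
    exact ⟨⟨⟨x₀.1 x, hidem x₀ x⟩, 0, fun h => hx (congrArg Subtype.val h)⟩⟩
  have hWirr : IsIrr ↥H ↥W := by
    refine ⟨inferInstance, fun U hU => ?_⟩
    by_cases hU0 : U = ⊥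
    · exact Or.inl hU0
    right
    let U' : AddSubgroup V := AddSubgroup.closure {x | ∃ g : G, ∃ u ∈ U, g • (u : V) = x}
    have hU' : ∀ g : G, ∀ x ∈ U', g • x ∈ U' := by
      intro g x hx
      induction hx using AddSubgroup.closure_induction with
      | mem x hx =>
        obtain ⟨h, u, hu, rfl⟩ := hx
        exact AddSubgroup.subset_closure ⟨g * h, u, hu, mul_smul _ _ _⟩
      | zero => rw [smul_zero]; exact zero_mem _
      | add x y _ _ hx hy => rw [smul_add]; exact add_mem hx hy
      | neg x _ hx => rw [smul_neg]; exact neg_mem hx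
    have hU'top : U' = ⊤ := (hirr.2 U' hU').resolve_left fun h => hU0 ((AddSubgroup.eq_bot_iff_forall _).2
      fun u hu => Subtype.ext (by
        have : (u : V) ∈ U' := AddSubgroup.subset_closure ⟨1, u, hu, one_smul _ _⟩
        rw [h, AddSubgroup.mem_bot] at this
        exact this))
    refine (AddSubgroup.eq_top_iff' _).2 fun w => ?_
    have key : ∀ x ∈ U', (⟨x₀.1 x, hidem x₀ x⟩ : ↥W) ∈ U := by
      intro x hx
      induction hx using AddSubgroup.closure_induction with
      | mem x hx =>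
        obtain ⟨g, u, hu, rfl⟩ := hx
        by_cases hg : g • x₀ = x₀
        · have h := hU ⟨g, hg⟩ u hu
          have heq : (⟨x₀.1 (g • (u : V)), hidem x₀ _⟩ : ↥W) = (⟨g, hg⟩ : ↥H) • u :=
            Subtype.ext (by
              show x₀.1 (g • (u : V)) = g • (u : V)
              exact hWinv ⟨g, hg⟩ u u.2)
          rw [heq]; exact h
        · have h := hsm g x₀ u
          rw [(hWmem u).1 u.2] at h
          have heq : (⟨x₀.1 (g • (u : V)), hidem x₀ _⟩ : ↥W) = 0 := Subtype.ext (by
            show x₀.1 (g • (u : V)) = 0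
            rw [← h]; exact horth x₀ (g • x₀) (Ne.symm hg) _)
          rw [heq]; exact zero_mem _
      | zero =>
        have heq : (⟨x₀.1 0, hidem x₀ _⟩ : ↥W) = 0 := Subtype.ext (map_zero x₀.1)
        rw [heq]; exact zero_mem _
      | add x y _ _ hx hy =>
        have heq : (⟨x₀.1 (x + y), hidem x₀ _⟩ : ↥W) = ⟨x₀.1 x, hidem x₀ x⟩ + ⟨x₀.1 y, hidem x₀ y⟩ :=
          Subtype.ext (map_add x₀.1 x y)
        rw [heq]; exact add_mem hx hy
      | neg x _ hx =>
        have heq : (⟨x₀.1 (-x), hidem x₀ _⟩ : ↥W) = -⟨x₀.1 x, hidem x₀ x⟩ :=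
          Subtype.ext (map_neg x₀.1 x)
        rw [heq]; exact neg_mem hx
    have h := key w (hU'top ▸ AddSubgroup.mem_top _)
    have heq : (⟨x₀.1 (w : V), hidem x₀ _⟩ : ↥W) = w := Subtype.ext w.2
    rwa [heq] at h
  -- sizes
  choose t ht using fun e => exists_smul_eq G x₀ e
  have hmemW : ∀ (e : Ω) (x : V), (t e)⁻¹ • e.1 x ∈ W := fun e x => by
    rw [hWmem]
    have h := hsm (t e)⁻¹ e (e.1 x)
    rwa [show (t e)⁻¹ • e = x₀ from inv_smul_eq_iff.2 (ht e).symm, hidem] at h
  have htfix : ∀ (e : Ω) (w : ↥W), e.1 (t e • (w : V)) = t e • (w : V) := fun e w => by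
    have h := hsm (t e) x₀ (w : V)
    rw [ht, (hWmem _).1 w.2] at h
    exact h
  have hcardV : Nat.card V = Nat.card ↥W ^ Nat.card Ω := by
    rw [← Nat.card_fun]
    refine Nat.card_congr
      { toFun := fun x e => ⟨(t e)⁻¹ • e.1 x, hmemW e x⟩
        invFun := fun w => ∑ e, t e • (w e : V)
        left_inv := fun x => ?_
        right_inv := fun w => funext fun e => Subtype.ext ?_ }
    · simp only [smul_inv_smul]
      exact hsum x
    · show (t e)⁻¹ • e.1 (∑ f, t f • (w f : V)) = w e
      rw [map_sum, Finset.sum_eq_single e (fun f _ hf => by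
          rw [← htfix f (w f)]; exact horth e f (Ne.symm hf) _)
        (fun h => absurd (Finset.mem_univ e) h), htfix, inv_smul_smul]
  obtain ⟨j, -, hj⟩ : ∃ j ≤ n, Nat.card ↥W = r ^ j :=
    (Nat.dvd_prime_pow hr).1 (hn ▸ W.card_addSubgroup_dvd_card)
  have hm : Nat.card Ω * j = n := by
    rw [hn, hj, ← pow_mul] at hcardV
    rw [Nat.mul_comm]
    exact (Nat.pow_right_injective hr.two_le hcardV).symm
  have hj1 : 1 ≤ j := by
    by_contra h0
    have := Finite.one_lt_card_iff_nontrivial.2 (inferInstance : Nontrivial ↥W)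
    rw [hj, show j = 0 by omega, pow_zero] at this
    exact lt_irrefl _ this
  obtain ⟨x, y, hx, hy, hxy⟩ := h (Nat.card Ω) j hm
    (Finite.one_lt_card_iff_nontrivial.2 inferInstance) hj1 p k hp hpk
  have hΩ := hperm x hx
  have hWdl : DlActs ↥H ↥W y := hy ↥H ↥W inferInstance hWirr.isCR hj
  intro g hg v
  have hker : ∀ u ∈ derivedSeries G (1 + x), ∀ e : Ω, u • e = e := hΩ
  have hgD : g ∈ derivedSeries G (1 + x + y) := derivedSeries_antitone G hxy hg
  conv_lhs => rw [← hsum v]
  rw [Finset.smul_sum]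
  conv_rhs => rw [← hsum v]
  refine Finset.sum_congr rfl fun e _ => ?_
  have hg' : (t e)⁻¹ * g * t e ∈ derivedSeries G (1 + x + y) := by
    simpa using (derivedSeries_normal G _).conj_mem g hgD (t e)⁻¹
  obtain ⟨u, hu, huv⟩ := derived_add_le
    (show derivedSeries G (1 + x) ≤ H from fun u hu => hker u hu x₀) y hg'
  have h1 := congrArg Subtype.val (hWdl u hu ⟨(t e)⁻¹ • e.1 v, hmemW e v⟩)
  change (u : G) • (t e)⁻¹ • e.1 v = (t e)⁻¹ • e.1 v at h1
  rw [show (u : G) = (t e)⁻¹ * g * t e from huv, ← mul_smul, mul_inv_cancel_right, mul_smul] at h1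
  exact MulAction.injective _ h1

theorem ringAut_mul_comm {F : Type*} [Field F] [Finite F] (σ τ : F ≃+* F) : σ * τ = τ * σ := by
  haveI : Fact (ringChar F).Prime := ⟨CharP.char_is_prime F _⟩
  haveI : CharP F (ringChar F) := ringChar.charP F
  letI : Algebra (ZMod (ringChar F)) F := ZMod.algebra F (ringChar F)
  have hc : ∀ (ρ : F ≃+* F) (x : ZMod (ringChar F)), ρ (algebraMap _ F x) = algebraMap _ F x :=
    fun ρ x => DFunLike.congr_fun
      (RingHom.ext_zmod ((ρ : F →+* F).comp (algebraMap _ F)) (algebraMap _ F)) x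
  letI := IsCyclic.commGroup (α := (F ≃ₐ[ZMod (ringChar F)] F))
  have h := mul_comm (AlgEquiv.ofRingEquiv (f := σ) (hc σ)) (AlgEquiv.ofRingEquiv (f := τ) (hc τ))
  exact RingEquiv.ext fun x => DFunLike.congr_fun h x

theorem ringAut_eq_one_of_prime_card {F : Type*} [Field F] [Finite F] (h : (Nat.card F).Prime)
    (σ : F ≃+* F) : σ = 1 := by
  refine RingEquiv.ext fun x => ?_
  rcases (AddSubgroup.eq_bot_or_eq_top_of_prime_card (hp := ⟨h⟩) (AddSubgroup.zmultiples (1 : F))) with
    h0 | h0
  · exact absurd (AddSubgroup.mem_bot.1 (h0 ▸ AddSubgroup.mem_zmultiples (1 : F))) one_ne_zero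
  · obtain ⟨z, rfl⟩ := AddSubgroup.mem_zmultiples_iff.1 (h0 ▸ AddSubgroup.mem_top x)
    rw [map_zsmul, map_one]
    rfl

/-- The number of derived steps down to the kernel of the field automorphisms. -/
def fieldStep (f : ℕ) : ℕ := if f = 1 then 0 else 1

section Section

variable {G V : Type} [Group G] [Finite G] [AddCommGroup V] [Finite V] [DistribMulAction G V]
  [FaithfulSMul G V] (S : SectData G V)

theorem exists_degrees [Nontrivial V] {r n : ℕ} (hr : r.Prime) (hn : Nat.card V = r ^ n) :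
    ∃ f d : ℕ, f * d = n ∧ 1 ≤ f ∧ Nat.card S.K = r ^ f ∧ Module.finrank S.K V = d := by
  haveI : Module.Finite S.K V := Module.Finite.of_finite
  have hd : 0 < Module.finrank S.K V := Module.finrank_pos
  have hV : Nat.card V = Nat.card S.K ^ Module.finrank S.K V := Module.natCard_eq_pow_finrank
  obtain ⟨f, -, hf⟩ := (Nat.dvd_prime_pow hr).1 (hn ▸ hV ▸ dvd_pow_self (Nat.card S.K) hd.ne')
  refine ⟨f, _, ?_, ?_, hf, rfl⟩
  · rw [hn, hf, ← pow_mul] at hV
    exact (Nat.pow_right_injective hr.two_le hV).symm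
  · by_contra h0
    have := Finite.one_lt_card (α := S.K)
    rw [hf, show f = 0 by omega, pow_zero] at this
    exact lt_irrefl _ this

theorem derived_le_ker {r f : ℕ} (hr : r.Prime) (hf : Nat.card S.K = r ^ f) :
    derivedSeries G (fieldStep f) ≤ S.σ.ker := by
  unfold fieldStep
  split_ifs with h1
  · intro g _
    exact MonoidHom.mem_ker.2 (ringAut_eq_one_of_prime_card (by rw [hf, h1, pow_one]; exact hr) _)
  · rw [derivedSeries_succ, derivedSeries_zero, Subgroup.commutator_le]
    intro a _ c _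
    rw [MonoidHom.mem_ker, commutatorElement_def, map_mul, map_mul, map_mul, map_inv, map_inv,
      ringAut_mul_comm (S.σ a) (S.σ c)]
    group

theorem scal_comm {x y : G} (hx : x ∈ S.A) (hy : y ∈ S.A) : x * y = y * x := by
  obtain ⟨c, -, hc⟩ := S.scal x hx
  obtain ⟨d, -, hd⟩ := S.scal y hy
  refine eq_of_smul_eq_smul fun v : V => ?_
  rw [mul_smul, mul_smul, hd, hc, hc, hd, smul_comm]

theorem dl_of_le_B {a : ℕ} (h : derivedSeries G a ≤ S.B) {b : ℕ} (hb : a + 2 ≤ b) :
    DlActs G V b := by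
  have h1 : derivedSeries G (a + 1) ≤ S.A := by
    rw [derivedSeries_succ, Subgroup.commutator_le]
    intro x hx y hy
    exact S.comm x (h hx) y (h hy)
  have h2 : derivedSeries G (a + 2) = ⊥ := by
    rw [show a + 2 = a + 1 + 1 from rfl, derivedSeries_succ, eq_bot_iff, Subgroup.commutator_le]
    intro x hx y hy
    rw [Subgroup.mem_bot, commutatorElement_eq_one_iff_mul_comm]
    exact scal_comm S (h1 hx) (h1 hy)
  intro g hg v
  have h3 := derivedSeries_antitone G hb hg
  rw [h2, Subgroup.mem_bot] at h3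
  rw [h3, one_smul]

/-- The bound from the section, by the size of the extraspecial part. -/
theorem dl_sect [Group.IsSolvable G] {r f b : ℕ} (hr : r.Prime) (hf : Nat.card S.K = r ^ f)
    (hb : (S.e = 1 ∧ fieldStep f + 1 ≤ b) ∨ (S.e = 3 ∧ fieldStep f + 5 ≤ b) ∨
      ∃ x, (∀ s c : ℕ, s.Prime → 1 ≤ c → s ^ c ∣ S.e ^ 2 → DlBound s c x) ∧
        fieldStep f + (x + 2) ≤ b) : DlActs G V b := by
  have hker := derived_le_ker S hr hf
  rcases hb with ⟨he, hb⟩ | ⟨he, hb⟩ | ⟨x, hx, hb⟩
  · have hBA : S.B ≤ S.A := Subgroup.relIndex_eq_one.1 (by rw [S.relIndex, he, one_pow])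
    have hN : Nat.card S.N = 1 := by rw [S.card_N, he, one_pow]
    have hkA : derivedSeries G (fieldStep f) ≤ S.A := fun g hg =>
      hBA (S.ker_le g (hker hg) fun x => (Nat.card_eq_one_iff_unique.1 hN).1.elim _ _)
    intro g hg v
    have h3 := derivedSeries_antitone G hb hg
    have h2 : derivedSeries G (fieldStep f + 1) = ⊥ := by
      rw [derivedSeries_succ, eq_bot_iff, Subgroup.commutator_le]
      intro x hx y hy
      rw [Subgroup.mem_bot, commutatorElement_eq_one_iff_mul_comm]
      exact scal_comm S (hkA hx) (hkA hy)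
    rw [h2, Subgroup.mem_bot] at h3
    rw [h3, one_smul]
  · exact dl_of_le_B S (a := fieldStep f + 3)
      (le_trans (derived_add_le hker 3) (S.three he)) (by omega)
  · have hN : DlActs G S.N x := dl_of_dvd hx _ G S.N inferInstance S.cr rfl (S.card_N ▸ dvd_rfl)
    refine dl_of_le_B S (a := fieldStep f + x) (fun g hg => ?_) (by omega)
    exact S.ker_le g (hker (derivedSeries_antitone G (Nat.le_add_right _ _) hg))
      (hN g (derivedSeries_antitone G (Nat.le_add_left _ _) hg))

end Section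

/-- Admissible bounds for the imprimitive modules of order `r ^ n`. -/
def ImpOK (r n b : ℕ) : Prop :=
  ∀ m j : ℕ, m * j = n → 2 ≤ m → 1 ≤ j → ∀ p k : ℕ, p.Prime → p ^ k = m →
    ∃ x y, DlBound p k x ∧ DlBound r j y ∧ 1 + x + y ≤ b

/-- The admissible bounds for a section of degree `e` over a field of degree `f`. -/
def PrimCase (f e b : ℕ) : Prop :=
  (e = 1 ∧ fieldStep f + 1 ≤ b) ∨ (e = 3 ∧ fieldStep f + 5 ≤ b) ∨
    ∃ x, (∀ s c : ℕ, s.Prime → 1 ≤ c → s ^ c ∣ e ^ 2 → DlBound s c x) ∧ fieldStep f + (x + 2) ≤ b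

/-- Admissible bounds for the primitive modules of order `r ^ n`. -/
def PrimOK (r n b : ℕ) : Prop :=
  ∀ f d e : ℕ, f * d = n → 1 ≤ f → 1 ≤ e → e ≤ d →
    (∀ s : ℕ, s.Prime → s ∣ e → s ∣ r ^ f - 1) → PrimCase f e b

theorem e_pos {G V : Type} [Group G] [Finite G] [AddCommGroup V] [DistribMulAction G V]
    (S : SectData G V) : 1 ≤ S.e := by
  have h : S.A.relIndex S.B ≠ 0 := Subgroup.FiniteIndex.index_ne_zero
  rw [S.relIndex] at h
  rcases Nat.eq_zero_or_pos S.e with he | he
  · simp [he] at h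
  · exact he

/-- The induction step. -/
theorem dlBound_step (hS : HasSect) {r n b : ℕ} (hr : r.Prime)
    (hred : ∀ j, j < n → DlBound r j b) (himp : ImpOK r n b) (hprim : PrimOK r n b) :
    DlBound r n b := by
  intro G V _ _ _ _ _ hs hcr hn
  by_cases hne : Nontrivial V
  swap
  · rw [not_nontrivial_iff_subsingleton] at hne
    exact fun g _ v => hne.elim _ _
  haveI := hne
  by_cases hirr : IsIrr G V
  swap
  · refine dl_reducible hcr hirr fun W _ _ _ hW hWd hlt => ?_
    obtain ⟨j, -, hj⟩ := (Nat.dvd_prime_pow hr).1 (hn ▸ hWd)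
    rw [hj, hn] at hlt
    exact hred j ((Nat.pow_lt_pow_iff_right hr.one_lt).1 hlt) G W hs hW hj
  refine dl_faithful hs hirr fun Q _ _ _ _ hQs hQi => ?_
  by_cases hp : H34.IsPrim (DistribMulAction.toAddMonoidEnd Q V)
  swap
  · exact dl_imprimitive hQs hQi hp hr hn himp
  obtain ⟨S⟩ := hS Q V hQs hQi hp
  haveI := hQs
  obtain ⟨f, d, hfd, hf1, hf, hd⟩ := exists_degrees S hr hn
  exact dl_sect S hr hf (hprim f d S.e hfd hf1 (e_pos S) (hd ▸ S.e_le)
    fun s hs' hse => hf ▸ S.root s hs' hse)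

end H89.Orbit
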