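import Cfsg.Agent.H89.Orbit.DlTable
import Cfsg.Agent.H21.Base3.Main
import Cfsg.Agent.H21.Base3.Orbits

/-!
Derived lengths and orders of completely reducible solvable groups on modules of order `e ^ 2`.
-/

set_option autoImplicit false
set_option linter.style.haveILetI false
set_option linter.unusedSectionVars false

namespace H89.Orbit

open H27.Orbit (DlActs DlBound DlTable)
open H35.OddBase (IsCR IsIrr)

/-- The multiples killed by `A`. -/
def torsion (N : Type) [AddCommGroup N] (A : ℕ) : AddSubgroup N :=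
  (nsmulAddMonoidHom A : N →+ N).ker

theorem mem_torsion {N : Type} [AddCommGroup N] {A : ℕ} {x : N} :
    x ∈ torsion N A ↔ A • x = 0 := Iff.rfl

theorem torsion_inv {G N : Type} [Group G] [AddCommGroup N] [DistribMulAction G N] (A : ℕ) :
    ∀ g : G, ∀ x ∈ torsion N A, g • x ∈ torsion N A := fun g x hx => by
  rw [mem_torsion] at hx ⊢
  rw [smul_comm, hx, smul_zero]

/-- The decomposition of a finite abelian group along a coprime factorisation of its order. -/
theorem torsion_split {N : Type} [AddCommGroup N] [Finite N] {A B : ℕ} (hAB : Nat.Coprime A B)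
    (hN : Nat.card N = A * B) :
    Nat.card ↥(torsion N A) = A ∧ ∀ x : N, ∃ a ∈ torsion N A, ∃ b ∈ torsion N B, a + b = x := by
  classical
  have hkill : ∀ x : N, (A * B) • x = 0 := fun x => by
    rw [← hN]; exact card_nsmul_eq_zero'
  have hsum : ∀ x : N, ∃ a ∈ torsion N A, ∃ b ∈ torsion N B, a + b = x := by
    intro x
    have hg : ((A.gcd B : ℕ) : ℤ) = A * A.gcdA B + B * A.gcdB B := Nat.gcd_eq_gcd_ab A B
    rw [hAB, Nat.cast_one] at hg
    refine ⟨((B : ℤ) * A.gcdB B) • x, ?_, ((A : ℤ) * A.gcdA B) • x, ?_, ?_⟩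
    · rw [mem_torsion, ← natCast_zsmul, ← mul_smul,
        show (A : ℤ) * ((B : ℤ) * A.gcdB B) = A.gcdB B * ((A * B : ℕ) : ℤ) by push_cast; ring,
        mul_smul, natCast_zsmul, hkill, smul_zero]
    · rw [mem_torsion, ← natCast_zsmul, ← mul_smul,
        show (B : ℤ) * ((A : ℤ) * A.gcdA B) = A.gcdA B * ((A * B : ℕ) : ℤ) by push_cast; ring,
        mul_smul, natCast_zsmul, hkill, smul_zero]
    · rw [← add_smul, show (B : ℤ) * A.gcdB B + (A : ℤ) * A.gcdA B = 1 by rw [hg]; ring, one_smul]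
  refine ⟨?_, hsum⟩
  have hcop : ∀ (C D : ℕ), Nat.Coprime C D → Nat.Coprime (Nat.card ↥(torsion N C)) D := by
    intro C D hCD
    refine Nat.coprime_of_dvd fun q hq hqC hqD => hq.ne_one ?_
    haveI : Fact q.Prime := ⟨hq⟩
    obtain ⟨w, hw⟩ := exists_prime_addOrderOf_dvd_card' q hqC
    have hqC' : q ∣ C := hw ▸ addOrderOf_dvd_of_nsmul_eq_zero
      (Subtype.ext (mem_torsion.1 w.2) : C • w = 0)
    exact Nat.eq_one_of_dvd_coprimes hCD hqC' hqD
  have hdA : Nat.card ↥(torsion N A) ∣ A :=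
    (hcop A B hAB).dvd_of_dvd_mul_right (hN ▸ (torsion N A).card_addSubgroup_dvd_card)
  have hdB : Nat.card ↥(torsion N B) ∣ B :=
    (hcop B A hAB.symm).dvd_of_dvd_mul_left (hN ▸ (torsion N B).card_addSubgroup_dvd_card)
  have hA : 0 < A := Nat.pos_of_mul_pos_right (hN ▸ Nat.card_pos)
  have hB : 0 < B := Nat.pos_of_mul_pos_left (hN ▸ Nat.card_pos)
  have hle : Nat.card N ≤ Nat.card ↥(torsion N A) * Nat.card ↥(torsion N B) := by
    rw [← Nat.card_prod]
    refine Nat.card_le_card_of_surjective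
      (fun x : ↥(torsion N A) × ↥(torsion N B) => (x.1 : N) + x.2) fun x => ?_
    obtain ⟨a, ha, b, hb, h⟩ := hsum x
    exact ⟨(⟨a, ha⟩, ⟨b, hb⟩), h⟩
  have h1 := Nat.le_of_dvd hA hdA
  have h2 := Nat.le_of_dvd hB hdB
  rw [hN] at hle
  nlinarith

/-- The derived length from the primary parts. -/
theorem dlActs_parts {x : ℕ} : ∀ (e : ℕ), 1 ≤ e →
    (∀ s a : ℕ, s.Prime → 1 ≤ a → s ^ a ∣ e → DlBound s (2 * a) x) →
    ∀ (G N : Type) [Group G] [Finite G] [AddCommGroup N] [Finite N] [DistribMulAction G N],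
      Group.IsSolvable G → IsCR G N → Nat.card N = e ^ 2 → DlActs G N x := by
  intro e
  induction e using Nat.strong_induction_on with
  | _ e ih =>
    intro he hx G N _ _ _ _ _ hs hcr hN g hg v
    by_cases he1 : e = 1
    · rw [he1, one_pow, Nat.card_eq_one_iff_unique] at hN
      exact hN.1.elim _ _
    obtain ⟨s, hs', hse⟩ := Nat.exists_prime_and_dvd he1
    obtain ⟨a, e', hne', rfl⟩ :=
      Nat.exists_eq_pow_mul_and_not_dvd (by omega : e ≠ 0) s hs'.ne_one
    have ha : 1 ≤ a := by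
      by_contra h0
      exact hne' (by simpa [show a = 0 by omega] using hse)
    have he' : 1 ≤ e' := Nat.pos_of_ne_zero fun h => hne' (h ▸ dvd_zero s)
    have hcop : Nat.Coprime (s ^ (2 * a)) (e' ^ 2) :=
      (Nat.Coprime.pow _ _ ((hs'.coprime_iff_not_dvd).2 hne'))
    have hcard : Nat.card N = s ^ (2 * a) * e' ^ 2 := by rw [hN]; ring
    obtain ⟨hA, hsum⟩ := torsion_split hcop hcard
    obtain ⟨hB, -⟩ := torsion_split hcop.symm (hcard.trans (mul_comm _ _))
    obtain ⟨u, hu, w, hw, rfl⟩ := hsum v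
    rw [smul_add]
    congr 1
    · letI := subAct (torsion N (s ^ (2 * a))) (torsion_inv (G := G) _)
      exact congrArg Subtype.val (hx s a hs' ha (dvd_mul_right _ _) G ↥(torsion N (s ^ (2 * a))) hs
        (isCR_sub hcr _ (torsion_inv _)) hA g hg ⟨u, hu⟩)
    · letI := subAct (torsion N (e' ^ 2)) (torsion_inv (G := G) _)
      have hlt : e' < s ^ a * e' := lt_mul_of_one_lt_left he' (Nat.one_lt_pow (by omega) hs'.one_lt)
      exact congrArg Subtype.val (ih e' hlt he'
        (fun t c ht hc hd => hx t c ht hc (hd.trans (dvd_mul_left _ _))) G ↥(torsion N (e' ^ 2)) hs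
        (isCR_sub hcr _ (torsion_inv _)) hB g hg ⟨w, hw⟩)

theorem pow_exponent_le {s a e K : ℕ} (hs : s.Prime) (he : 1 ≤ e) (hd : s ^ a ∣ e) (hK : e < 2 ^ K) :
    a < K := by
  have h1 : 2 ^ a ≤ s ^ a := Nat.pow_le_pow_left hs.two_le a
  have h2 := Nat.le_of_dvd he hd
  exact (Nat.pow_lt_pow_iff_right one_lt_two).1 (by omega)

theorem exponent_lt {s a e b K : ℕ} (hb : 1 < b) (hs : b ≤ s) (he : 1 ≤ e) (hd : s ^ a ∣ e)
    (hK : e < b ^ K) : a < K := by
  have h1 : b ^ a ≤ s ^ a := Nat.pow_le_pow_left hs a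
  have h2 := Nat.le_of_dvd he hd
  exact (Nat.pow_lt_pow_iff_right hb).1 (by omega)

section Bounds

variable {G N : Type} [Group G] [Finite G] [AddCommGroup N] [Finite N] [DistribMulAction G N]

theorem dlActs_small (hT : DlTable) (hs : Group.IsSolvable G) (hcr : IsCR G N) {e : ℕ}
    (hN : Nat.card N = e ^ 2) (he : e ≤ 7) : DlActs G N 4 := by
  have he1 : 1 ≤ e := Nat.pos_of_ne_zero fun h => by
    rw [h] at hN
    exact Nat.card_pos.ne' (hN.trans (by norm_num) : Nat.card N = 0)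
  refine dlActs_parts e he1 (fun s a hs' ha hd => ?_) G N hs hcr hN
  have ha3 := exponent_lt (b := 2) (K := 3) one_lt_two hs'.two_le he1 hd (by norm_num; omega)
  obtain rfl | rfl : a = 1 ∨ a = 2 := by omega
  · exact hT.anyTwo s hs'
  · have h2 : s = 2 := by
      by_contra h
      have := exponent_lt (b := 3) (K := 2) (by norm_num) (by have := hs'.two_le; omega) he1 hd
        (by norm_num; omega)
      omega
    subst h2
    exact dlBound_mono hT.twoFour (by norm_num)

theorem dlActs_two (hT : DlTable) (hs : Group.IsSolvable G) (hcr : IsCR G N) {e : ℕ}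
    (hN : Nat.card N = e ^ 2) (he : e = 2) : DlActs G N 2 :=
  hT.twoTwo G N hs hcr (by rw [hN, he])

theorem dlActs_four (hT : DlTable) (hs : Group.IsSolvable G) (hcr : IsCR G N) {e : ℕ}
    (hN : Nat.card N = e ^ 2) (he : e = 4) : DlActs G N 3 :=
  hT.twoFour G N hs hcr (by rw [hN, he]; norm_num)

theorem dlActs_nine_e (hT : DlTable) (hs : Group.IsSolvable G) (hcr : IsCR G N) {e : ℕ}
    (hN : Nat.card N = e ^ 2) (he : e = 9) : DlActs G N 5 :=
  hT.threeFour G N hs hcr (by rw [hN, he]; norm_num)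

theorem dlActs_sixteen (hT : DlTable) (hs : Group.IsSolvable G) (hcr : IsCR G N) {e : ℕ}
    (hN : Nat.card N = e ^ 2) (he : e = 16) : DlActs G N 6 :=
  hT.twoEight G N hs hcr (by rw [hN, he]; norm_num)

theorem dlActs_le_31 (hT : DlTable) (hs : Group.IsSolvable G) (hcr : IsCR G N) {e : ℕ}
    (hN : Nat.card N = e ^ 2) (he1 : 1 ≤ e) (he : e ≤ 31) : DlActs G N 7 := by
  refine dlActs_parts e he1 (fun s a hs' ha hd => ?_) G N hs hcr hN
  have h2 := exponent_lt (b := 2) (K := 5) one_lt_two hs'.two_le he1 hd (by norm_num; omega)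
  by_cases hs2 : s = 2
  · subst hs2
    obtain rfl | rfl | rfl | rfl : a = 1 ∨ a = 2 ∨ a = 3 ∨ a = 4 := by omega
    exacts [dlBound_mono (hT.anyTwo 2 hs') (by norm_num), dlBound_mono hT.twoFour (by norm_num),
      dlBound_mono hT.twoSix (by norm_num), dlBound_mono hT.twoEight (by norm_num)]
  by_cases hs3 : s = 3
  · subst hs3
    have h3 := exponent_lt (b := 3) (K := 4) (by norm_num) le_rfl he1 hd (by norm_num; omega)
    obtain rfl | rfl | rfl : a = 1 ∨ a = 2 ∨ a = 3 := by omega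
    exacts [dlBound_mono (hT.anyTwo 3 hs') (by norm_num), dlBound_mono hT.threeFour (by norm_num),
      hT.threeSix]
  have hs5 : 5 ≤ s := by
    have := hs'.two_le
    have h4 : s ≠ 4 := fun h => absurd (h ▸ hs') (by norm_num)
    omega
  have h5 := exponent_lt (b := 5) (K := 3) (by norm_num) hs5 he1 hd (by norm_num; omega)
  obtain rfl | rfl : a = 1 ∨ a = 2 := by omega
  · exact dlBound_mono (hT.anyTwo s hs') (by norm_num)
  · have hs7 : s = 5 := by
      by_contra h
      have := exponent_lt (b := 6) (K := 2) (by norm_num) (by omega) he1 hd (by norm_num; omega)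
      omega
    subst hs7
    exact hT.fiveFour

theorem dlActs_lt_256 (hT : DlTable) (hs : Group.IsSolvable G) (hcr : IsCR G N) {e : ℕ}
    (hN : Nat.card N = e ^ 2) (he1 : 1 ≤ e) (he : e < 256) : DlActs G N 8 :=
  dlActs_parts e he1
    (fun s a hs' ha hd => hT.small s a hs' ha ((Nat.le_of_dvd he1 hd).trans_lt he)) G N hs hcr hN

theorem eight_alt (hT : DlTable) [FaithfulSMul G N] (hs : Group.IsSolvable G) (hcr : IsCR G N)
    {e : ℕ} (hN : Nat.card N = e ^ 2) (he : e = 8) : DlActs G N 5 ∨ Nat.card G ∣ 2592 :=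
  hT.twoSixAlt G N hs hcr (by rw [hN, he]; norm_num)

theorem card_le_cube [FaithfulSMul G N] (hs : Group.IsSolvable G) (hcr : IsCR G N) {e : ℕ}
    (hN : Nat.card N = e ^ 2) : Nat.card G ≤ (e ^ 2) ^ 3 := by
  obtain ⟨a, b, c, h⟩ := H21.Base3.hasTriple_of_solvable H21.Base3.fiveTriples hs hcr
  have hinj : Function.Injective fun g : G => (g • a, g • b, g • c) := by
    intro g g' e'
    simp only [Prod.mk.injEq] at e'
    obtain ⟨e1, e2, e3⟩ := e'
    refine (inv_mul_eq_one.1 (eq_of_smul_eq_smul fun x : N => ?_)).symm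
    rw [one_smul]
    exact h (g'⁻¹ * g) (by rw [mul_smul, e1, inv_smul_smul]) (by rw [mul_smul, e2, inv_smul_smul])
      (by rw [mul_smul, e3, inv_smul_smul]) x
  have := Nat.card_le_card_of_injective _ hinj
  rw [Nat.card_prod, Nat.card_prod, hN] at this
  calc Nat.card G ≤ e ^ 2 * (e ^ 2 * e ^ 2) := this
    _ = (e ^ 2) ^ 3 := by ring

/-- A completely reducible group of prime power order has prime exponent. -/
theorem exponent_of_isCR {s m : ℕ} [Fact s.Prime] (hcr : IsCR G N) (hN : Nat.card N = s ^ m)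
    (v : N) : s • v = 0 := by
  obtain ⟨W, -, hb, ht⟩ := hcr (torsion N s) (torsion_inv s)
  by_cases hW : Nat.card ↥W = 1
  · rw [AddSubgroup.eq_bot_of_card_eq W hW, sup_bot_eq] at ht
    exact mem_torsion.1 (ht ▸ AddSubgroup.mem_top v)
  exfalso
  have hs := (Fact.out : s.Prime)
  have h3 : s ∣ Nat.card ↥W := by
    obtain ⟨i, -, hi⟩ := (Nat.dvd_prime_pow hs).1 (hN ▸ W.card_addSubgroup_dvd_card)
    rw [hi] at hW ⊢
    exact dvd_pow_self s fun h0 => hW (by rw [h0, pow_zero])
  obtain ⟨w, hw⟩ := exists_prime_addOrderOf_dvd_card' s h3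
  have hwU : (w : N) ∈ torsion N s :=
    mem_torsion.2 (by rw [← AddSubmonoidClass.coe_nsmul, ← hw, addOrderOf_nsmul_eq_zero]; rfl)
  have hw0 : (w : N) = 0 := AddSubgroup.mem_bot.1 (hb.le ⟨hwU, w.2⟩)
  rw [show w = 0 from Subtype.ext hw0, addOrderOf_zero] at hw
  exact hs.ne_one hw.symm

theorem card_dvd_GL_e [FaithfulSMul G N] (hcr : IsCR G N) {e r a : ℕ}
    (hN : Nat.card N = e ^ 2) (hr : r.Prime) (he : e = r ^ a) :
    Nat.card G ∣ ∏ i : Fin (2 * a), (r ^ (2 * a) - r ^ (i : ℕ)) := by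
  haveI : Fact r.Prime := ⟨hr⟩
  have hN' : Nat.card N = r ^ (2 * a) := by rw [hN, he, ← pow_mul, mul_comm]
  exact H35.OddBase.card_dvd_GL (exponent_of_isCR hcr hN') hN'

theorem card_le_six [FaithfulSMul G N] (hcr : IsCR G N) {e : ℕ}
    (hN : Nat.card N = e ^ 2) (he : e = 6) : Nat.card G ≤ 288 := by
  subst he
  haveI : Fact (Nat.Prime 2) := ⟨Nat.prime_two⟩
  haveI : Fact (Nat.Prime 3) := ⟨Nat.prime_three⟩
  have hcop : Nat.Coprime (2 ^ 2) (3 ^ 2) := by norm_num
  have hcard : Nat.card N = 2 ^ 2 * 3 ^ 2 := by rw [hN]; norm_num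
  obtain ⟨hA, hsum⟩ := torsion_split hcop hcard
  obtain ⟨hB, -⟩ := torsion_split hcop.symm (hcard.trans (mul_comm _ _))
  have part : ∀ (s A : ℕ) [Fact s.Prime], Nat.card ↥(torsion N A) = s ^ 2 →
      ∃ f : G →* Equiv.Perm ↥(torsion N A),
        (∀ g : G, ∀ x : ↥(torsion N A), (f g x : N) = g • (x : N)) ∧
        Nat.card ↥f.range ∣ ∏ i : Fin 2, (s ^ 2 - s ^ (i : ℕ)) := by
    intro s A _ hcardA
    letI := subAct (torsion N A) (torsion_inv (G := G) A)
    let f : G →* Equiv.Perm ↥(torsion N A) := MulAction.toPermHom G ↥(torsion N A)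
    refine ⟨f, fun g x => rfl, ?_⟩
    letI : DistribMulAction ↥f.range ↥(torsion N A) :=
      { smul := fun u x => (u : Equiv.Perm ↥(torsion N A)) x
        one_smul := fun x => rfl
        mul_smul := fun u w x => rfl
        smul_zero := fun u => by
          obtain ⟨g, hg⟩ := u.2
          show (u : Equiv.Perm ↥(torsion N A)) 0 = 0
          rw [← hg]; exact smul_zero g
        smul_add := fun u x y => by
          obtain ⟨g, hg⟩ := u.2
          show (u : Equiv.Perm ↥(torsion N A)) (x + y) =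
            (u : Equiv.Perm ↥(torsion N A)) x + (u : Equiv.Perm ↥(torsion N A)) y
          rw [← hg]; exact smul_add g x y }
    haveI : FaithfulSMul ↥f.range ↥(torsion N A) := ⟨fun {a b} h => Subtype.ext (Equiv.ext h)⟩
    exact H35.OddBase.card_dvd_GL
      (exponent_of_isCR (isCR_sub hcr _ (torsion_inv A)) hcardA) hcardA
  obtain ⟨f, hf, hf6⟩ := part 2 (2 ^ 2) hA
  obtain ⟨f', hf', hf48⟩ := part 3 (3 ^ 2) hB
  have hinj : Function.Injective fun g : G => (f.rangeRestrict g, f'.rangeRestrict g) := by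
    intro g g' h
    simp only [Prod.mk.injEq] at h
    refine eq_of_smul_eq_smul fun x : N => ?_
    obtain ⟨u, hu, w, hw, rfl⟩ := hsum x
    rw [smul_add, smul_add]
    congr 1
    · rw [← hf g ⟨u, hu⟩, ← hf g' ⟨u, hu⟩,
        show f g = f g' from congrArg Subtype.val h.1]
    · rw [← hf' g ⟨w, hw⟩, ← hf' g' ⟨w, hw⟩,
        show f' g = f' g' from congrArg Subtype.val h.2]
  have h1 := Nat.card_le_card_of_injective _ hinj
  rw [Nat.card_prod] at h1
  have h2 : Nat.card ↥f.range ≤ 6 := Nat.le_of_dvd (by norm_num) (by simpa [Fin.prod_univ_two] using hf6)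
  have h3 : Nat.card ↥f'.range ≤ 48 := Nat.le_of_dvd (by norm_num) (by simpa [Fin.prod_univ_two] using hf48)
  calc Nat.card G ≤ _ := h1
    _ ≤ 6 * 48 := Nat.mul_le_mul h2 h3

end Bounds

end H89.Orbit
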