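import Cfsg.Agent.H27.Orbit.Defs
import Cfsg.Agent.H21.Base3.Colour

/-!
Derived lengths of completely reducible solvable groups: sums, faithful quotients and primitive
permutation groups.
-/

set_option autoImplicit false
set_option linter.style.haveILetI false
set_option linter.unusedSectionVars false

namespace H89.Orbit

open MulAction
open H27.Orbit (DlActs DlBound)
open H35.OddBase (IsCR IsIrr)

theorem dlActs_mono {G X : Type*} [Group G] [MulAction G X] {a b : ℕ} (h : DlActs G X a)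
    (hab : a ≤ b) : DlActs G X b :=
  fun g hg x => h g (derivedSeries_antitone G hab hg) x

theorem dlBound_mono {r n a b : ℕ} (h : DlBound r n a) (hab : a ≤ b) : DlBound r n b :=
  fun G V _ _ _ _ _ hs hcr hn => dlActs_mono (h G V hs hcr hn) hab

/-- Derived subgroups above a subgroup. -/
theorem derived_add_le {G : Type*} [Group G] {H : Subgroup G} {a : ℕ}
    (h : derivedSeries G a ≤ H) (b : ℕ) :
    derivedSeries G (a + b) ≤ (derivedSeries ↥H b).map H.subtype := by
  induction b with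
  | zero =>
    rw [add_zero, derivedSeries_zero]
    intro g hg
    exact ⟨⟨g, h hg⟩, Subgroup.mem_top _, rfl⟩
  | succ b ih =>
    rw [← add_assoc, derivedSeries_succ, derivedSeries_succ, Subgroup.map_commutator]
    exact Subgroup.commutator_mono ih ih

theorem dlBound_zero (r : ℕ) : DlBound r 0 0 := by
  intro G V _ _ _ _ _ _ _ hn g _ x
  rw [pow_zero, Nat.card_eq_one_iff_unique] at hn
  exact hn.1.elim _ _

/-- The action on an invariant subgroup. -/
@[reducible] def subAct {G V : Type*} [Group G] [AddCommGroup V] [DistribMulAction G V]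
    (U : AddSubgroup V) (hU : ∀ g : G, ∀ v ∈ U, g • v ∈ U) : DistribMulAction G ↥U where
  smul g x := ⟨g • x.1, hU g x.1 x.2⟩
  one_smul x := Subtype.ext (one_smul G x.1)
  mul_smul g h x := Subtype.ext (mul_smul g h x.1)
  smul_zero g := Subtype.ext (smul_zero g)
  smul_add g x y := Subtype.ext (smul_add g x.1 y.1)

theorem isCR_sub {G V : Type*} [Group G] [AddCommGroup V] [DistribMulAction G V] (hcr : IsCR G V)
    (U : AddSubgroup V) (hU : ∀ g : G, ∀ v ∈ U, g • v ∈ U) :
    @IsCR G ↥U _ _ (subAct U hU) := by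
  letI := subAct U hU
  intro Y hY
  obtain ⟨Y', h1, h2, h3, h4⟩ := hcr.restrict U (Y.map U.subtype) hU (by
    rintro g _ ⟨y, hy, rfl⟩; exact ⟨g • y, hY g y hy, rfl⟩)
    (by rintro _ ⟨y, -, rfl⟩; exact y.2)
  refine ⟨Y'.comap U.subtype, fun g y hy => h1 g y.1 hy, ?_, ?_⟩
  · refine (AddSubgroup.eq_bot_iff_forall _).2 fun y hy => Subtype.ext ?_
    exact AddSubgroup.mem_bot.1 (h3.le ⟨⟨y, hy.1, rfl⟩, hy.2⟩)
  · refine (AddSubgroup.eq_top_iff' _).2 fun y => ?_
    obtain ⟨_, ⟨a, ha, rfl⟩, b, hb, hab⟩ := AddSubgroup.mem_sup.1 (h4.symm.le y.2)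
    exact AddSubgroup.mem_sup.2 ⟨a, ha, ⟨b, h2 hb⟩, hb, Subtype.ext hab⟩

/-- The reducible case. -/
theorem dl_reducible {G V : Type} [Group G] [Finite G] [AddCommGroup V] [Finite V]
    [DistribMulAction G V] [Nontrivial V] (hcr : IsCR G V) (hirr : ¬ IsIrr G V) {b : ℕ}
    (h : ∀ (W : Type) [AddCommGroup W] [Finite W] [DistribMulAction G W],
      IsCR G W → Nat.card W ∣ Nat.card V → Nat.card W < Nat.card V → DlActs G W b) :
    DlActs G V b := by
  unfold H35.OddBase.IsIrr at hirr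
  push Not at hirr
  obtain ⟨U, hU, hU0, hU1⟩ := hirr inferInstance
  obtain ⟨W, hW, hb, ht⟩ := hcr U hU
  have hW0 : W ≠ ⊥ := fun h0 => hU1 (by rw [h0, sup_bot_eq] at ht; exact ht)
  have key : ∀ (U : AddSubgroup V), (∀ g : G, ∀ v ∈ U, g • v ∈ U) → U ≠ ⊤ →
      ∀ g ∈ derivedSeries G b, ∀ x ∈ U, g • x = x := by
    intro U hU hne g hg x hx
    letI := subAct U hU
    have hlt : Nat.card ↥U < Nat.card V := by
      obtain ⟨y, hy⟩ : ∃ y, y ∉ U := by
        by_contra h
        push Not at h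
        exact hne ((AddSubgroup.eq_top_iff' U).2 h)
      exact Finite.card_subtype_lt (x := y) hy
    exact congrArg Subtype.val (h ↥U (isCR_sub hcr U hU) U.card_addSubgroup_dvd_card hlt g hg ⟨x, hx⟩)
  have hWtop : W ≠ ⊤ := fun h0 => hU0 (by rw [h0, inf_top_eq] at hb; exact hb)
  intro g hg x
  obtain ⟨u, hu, w, hw, rfl⟩ := AddSubgroup.mem_sup.1 (ht.symm.le (AddSubgroup.mem_top x))
  rw [smul_add, key U hU hU1 g hg u hu, key W hW hWtop g hg w hw]

/-- Passing to the faithful quotient of an irreducible action. -/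
theorem dl_faithful {G V : Type} [Group G] [Finite G] [AddCommGroup V] [Finite V]
    [DistribMulAction G V] (hs : Group.IsSolvable G) (hirr : IsIrr G V) {b : ℕ}
    (h : ∀ (Q : Type) [Group Q] [Finite Q] [DistribMulAction Q V] [FaithfulSMul Q V],
      Group.IsSolvable Q → IsIrr Q V → DlActs Q V b) : DlActs G V b := by
  haveI := hs
  let f : G →* Equiv.Perm V := MulAction.toPermHom G V
  let Q := G ⧸ f.ker
  have hwd : ∀ a b : G, a⁻¹ * b ∈ f.ker → ∀ v : V, a • v = b • v := fun a b h v => by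
    have h1 : (a⁻¹ * b) • v = v := DFunLike.congr_fun (MonoidHom.mem_ker.1 h) v
    rw [mul_smul, inv_smul_eq_iff] at h1
    exact h1.symm
  letI : DistribMulAction Q V :=
    { smul := fun q v => Quotient.liftOn' q (fun g => g • v)
        fun a b h => hwd a b (QuotientGroup.leftRel_apply.1 h) v
      one_smul := fun v => one_smul G v
      mul_smul := fun q r v => by
        induction q using QuotientGroup.induction_on
        induction r using QuotientGroup.induction_on
        exact mul_smul _ _ v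
      smul_zero := fun q => by induction q using QuotientGroup.induction_on; exact smul_zero _
      smul_add := fun q v w => by
        induction q using QuotientGroup.induction_on; exact smul_add _ v w }
  haveI : FaithfulSMul Q V := ⟨fun {a b} h => by
    induction a using QuotientGroup.induction_on
    induction b using QuotientGroup.induction_on
    refine QuotientGroup.eq.2 (MonoidHom.mem_ker.2 (Equiv.ext fun v => ?_))
    show ((_ : G)⁻¹ * _) • v = v
    rw [mul_smul, inv_smul_eq_iff]; exact (h v).symm⟩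
  have hQ := h Q inferInstance ⟨hirr.1, fun U hU => hirr.2 U fun g v hv => hU (g : Q) v hv⟩
  intro g hg v
  exact hQ (g : Q) (map_derivedSeries_le_derivedSeries (QuotientGroup.mk' f.ker) b ⟨g, hg, rfl⟩) v

/-- A group of prime power order from the exponent. -/
theorem exists_pow_of_exponent {W : Type*} [AddCommGroup W] [Finite W] {p : ℕ} (hp : p.Prime)
    (hexp : ∀ w : W, p • w = 0) : ∃ c, Nat.card W = p ^ c := by
  refine ⟨_, Nat.eq_prime_pow_of_unique_prime_dvd Nat.card_pos.ne' fun {q} hq hqW => ?_⟩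
  haveI : Fact q.Prime := ⟨hq⟩
  obtain ⟨u, hu⟩ := exists_prime_addOrderOf_dvd_card' q hqW
  exact (Nat.prime_dvd_prime_iff_eq hq hp).1 (hu ▸ addOrderOf_dvd_of_nsmul_eq_zero (hexp u))

/-- A module whose order divides `E`, from the prime power constituents. -/
theorem dl_of_dvd {E x : ℕ}
    (hx : ∀ s c : ℕ, s.Prime → 1 ≤ c → s ^ c ∣ E → DlBound s c x) (n : ℕ) :
    ∀ (G N : Type) [Group G] [Finite G] [AddCommGroup N] [Finite N] [DistribMulAction G N],
      Group.IsSolvable G → IsCR G N → Nat.card N = n → n ∣ E → DlActs G N x := by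
  induction n using Nat.strong_induction_on with
  | _ n ih =>
    intro G N _ _ _ _ _ hs hcr hn hdvd
    by_cases hne : Nontrivial N
    swap
    · rw [not_nontrivial_iff_subsingleton] at hne
      exact fun g _ v => hne.elim _ _
    by_cases hirr : IsIrr G N
    swap
    · refine dl_reducible hcr hirr fun W _ _ _ hW hWd hlt => ?_
      exact ih _ (hn ▸ hlt) G W hs hW rfl (hWd.trans (hn ▸ hdvd))
    haveI := hne
    have hne1 : Nat.card N ≠ 1 := (Finite.one_lt_card_iff_nontrivial.2 hne).ne'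
    obtain ⟨p, hp, hpd⟩ := Nat.exists_prime_and_dvd hne1
    haveI : Fact p.Prime := ⟨hp⟩
    obtain ⟨w, hw⟩ := exists_prime_addOrderOf_dvd_card' p hpd
    let U : AddSubgroup N := (nsmulAddMonoidHom p : N →+ N).ker
    have hmem : ∀ v, v ∈ U ↔ p • v = 0 := fun v => Iff.rfl
    have hwU : w ∈ U := (hmem w).2 (hw ▸ addOrderOf_nsmul_eq_zero w)
    have hw0 : w ≠ 0 := fun h0 => by
      rw [h0, addOrderOf_zero] at hw; exact hp.ne_one hw.symm
    have hexp : ∀ v : N, p • v = 0 := by
      rcases hirr.2 U (fun g v hv => by rw [hmem] at hv ⊢; rw [smul_comm, hv, smul_zero]) with h | h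
      · exact absurd (AddSubgroup.mem_bot.1 (h ▸ hwU)) hw0
      · exact fun v => (hmem v).1 (h ▸ AddSubgroup.mem_top v)
    obtain ⟨c, hc⟩ := exists_pow_of_exponent hp hexp
    have hc1 : 1 ≤ c := by
      by_contra h0
      exact hne1 (by rw [hc, show c = 0 by omega, pow_zero])
    exact hx p c hp hc1 (hc ▸ hn ▸ hdvd) G N hs hcr hc

/-- Primitive solvable permutation groups. -/
theorem dl_primitive {G X : Type} [Group G] [Finite G] [MulAction G X] [Finite X]
    [IsPretransitive G X] [Nontrivial X] (hs : Group.IsSolvable G) (x₀ : X)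
    (hmax : ∀ M : Subgroup G, stabilizer G x₀ < M → M = ⊤) :
    ∃ p k : ℕ, p.Prime ∧ p ^ k = Nat.card X ∧
      ∀ x, DlBound p k x → DlActs G X (1 + x) := by
  classical
  haveI := hs
  let P : Subgroup (Equiv.Perm X) := (MulAction.toPermHom G X).range
  have hPs : Group.IsSolvable ↥P :=
    Group.isSolvable_of_surjective (MulAction.toPermHom G X).rangeRestrict_surjective
  haveI := hPs
  let π : G →* ↥P := (MulAction.toPermHom G X).rangeRestrict
  have hπ : Function.Surjective π := (MulAction.toPermHom G X).rangeRestrict_surjective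
  have hπs : ∀ (g : G) (x : X), π g • x = g • x := fun g x => rfl
  haveI : IsPretransitive ↥P X := ⟨fun a b => by
    obtain ⟨g, hg⟩ := exists_smul_eq G a b
    exact ⟨π g, hg⟩⟩
  have hmaxP : ∀ M : Subgroup ↥P, stabilizer ↥P x₀ ≤ M → M ≠ stabilizer ↥P x₀ → M = ⊤ := by
    intro M hM hne
    have h1 : stabilizer G x₀ ≤ M.comap π := fun g hg => hM (show π g • x₀ = x₀ from hg)
    have h2 : M.comap π ≠ stabilizer G x₀ := fun e => hne (le_antisymm (fun u hu => by
      obtain ⟨g, rfl⟩ := hπ u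
      have h3 : g ∈ stabilizer G x₀ := e ▸ (show g ∈ M.comap π from hu)
      exact h3) hM)
    rw [← Subgroup.map_comap_eq_self_of_surjective hπ M, hmax _ (lt_of_le_of_ne h1 h2.symm),
      ← MonoidHom.range_eq_map, MonoidHom.range_eq_top.2 hπ]
  haveI : Nontrivial ↥P := by
    obtain ⟨y, hy⟩ := exists_ne x₀
    obtain ⟨g, hg⟩ := exists_smul_eq G x₀ y
    exact ⟨⟨π g, 1, fun h => hy (by rw [← hg, ← hπs, h, one_smul])⟩⟩
  obtain ⟨N, hN, hN0, hNc⟩ := H21.Base3.exists_abelian_normal hPs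
  have hreg : ∀ N : Subgroup ↥P, N.Normal → N ≠ ⊥ → IsMulCommutative ↥N →
      Function.Bijective fun a : ↥N => (a : ↥P) • x₀ := by
    intro N hN hN0 hNc
    haveI := hN
    haveI := hNc
    let M : Subgroup ↥P :=
      { carrier := {u | ∃ a ∈ N, u • x₀ = a • x₀}
        one_mem' := ⟨1, N.one_mem, rfl⟩
        mul_mem' := by
          rintro u w ⟨a, ha, hua⟩ ⟨b, hb, hwb⟩
          refine ⟨(u * b * u⁻¹) * a, N.mul_mem (hN.conj_mem b hb u) ha, ?_⟩
          rw [mul_smul, hwb, mul_smul, ← hua, mul_smul, mul_smul, inv_smul_smul]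
        inv_mem' := by
          rintro u ⟨a, ha, hua⟩
          refine ⟨u⁻¹ * a⁻¹ * u, by simpa using hN.conj_mem a⁻¹ (N.inv_mem ha) u⁻¹, ?_⟩
          rw [mul_smul, mul_smul, hua, inv_smul_smul] }
    have hHM : stabilizer ↥P x₀ ≤ M := fun u hu => ⟨1, N.one_mem, by rw [one_smul]; exact hu⟩
    have hne : M ≠ stabilizer ↥P x₀ := fun e => hN0 ((Subgroup.eq_bot_iff_forall _).2 fun a ha =>
      eq_of_smul_eq_smul fun x : X => by
        obtain ⟨u, rfl⟩ := exists_smul_eq ↥P x₀ x
        have hm : u⁻¹ * a * u ∈ M :=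
          ⟨_, by simpa using hN.conj_mem a ha u⁻¹, rfl⟩
        rw [e, mem_stabilizer_iff, mul_smul, mul_smul, inv_smul_eq_iff] at hm
        rw [one_smul]
        exact hm)
    have hMtop := hmaxP M hHM hne
    have hsur : ∀ x : X, ∃ a ∈ N, a • x₀ = x := fun x => by
      obtain ⟨u, rfl⟩ := exists_smul_eq ↥P x₀ x
      obtain ⟨a, ha, h⟩ := (hMtop ▸ Subgroup.mem_top u : u ∈ M)
      exact ⟨a, ha, h.symm⟩
    refine ⟨fun a b hab => Subtype.ext (eq_of_smul_eq_smul fun x : X => ?_), fun x => ?_⟩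
    · obtain ⟨c, hc, rfl⟩ := hsur x
      have hac := congrArg Subtype.val (mul_comm' a (⟨c, hc⟩ : ↥N))
      have hbc := congrArg Subtype.val (mul_comm' b (⟨c, hc⟩ : ↥N))
      simp only [Subgroup.coe_mul] at hac hbc
      rw [← mul_smul, hac, ← mul_smul, hbc, mul_smul, mul_smul]
      exact congrArg (c • ·) hab
    · obtain ⟨a, ha, h⟩ := hsur x
      exact ⟨⟨a, ha⟩, h⟩
  haveI := hN
  haveI := hNc
  have hbij := hreg N hN hN0 hNc
  have hNX : Nat.card ↥N = Nat.card X := Nat.card_eq_of_bijective _ hbij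
  letI : CommGroup ↥N := { (inferInstance : Group ↥N) with mul_comm := fun a b => mul_comm' a b }
  letI : DistribMulAction ↥(stabilizer ↥P x₀) (Additive ↥N) :=
    { smul := fun h a => Additive.ofMul (MulAut.conjNormal (h : ↥P) a.toMul)
      one_smul := fun a => by
        show Additive.ofMul (MulAut.conjNormal (1 : ↥P) a.toMul) = a
        rw [map_one]; rfl
      mul_smul := fun g h a => by
        show Additive.ofMul (MulAut.conjNormal ((g : ↥P) * (h : ↥P)) a.toMul) = _
        rw [map_mul]; rfl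
      smul_zero := fun h => by
        show Additive.ofMul (MulAut.conjNormal (h : ↥P) (1 : ↥N)) = _
        rw [map_one]; rfl
      smul_add := fun h a c => by
        show Additive.ofMul (MulAut.conjNormal (h : ↥P) (a.toMul * c.toMul)) = _
        rw [map_mul]; rfl }
  have hconj : ∀ u : ↥P, ∃ h : ↥(stabilizer ↥P x₀), ∀ a : Additive ↥N,
      ((h • a).toMul : ↥P) = u * (a.toMul : ↥P) * u⁻¹ := by
    intro u
    obtain ⟨c, hc⟩ := hbij.2 (u • x₀)
    refine ⟨⟨(c : ↥P)⁻¹ * u, by
      show ((c : ↥P)⁻¹ * u) • x₀ = x₀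
      rw [mul_smul, inv_smul_eq_iff]; exact hc.symm⟩, fun a => ?_⟩
    show ((MulAut.conjNormal ((c : ↥P)⁻¹ * u) a.toMul : ↥N) : ↥P) = _
    rw [MulAut.conjNormal_apply]
    have hcomm : (c : ↥P) * (u * (a.toMul : ↥P) * u⁻¹) = (u * (a.toMul : ↥P) * u⁻¹) * c :=
      congrArg Subtype.val (mul_comm' c (⟨_, hN.conj_mem _ a.toMul.2 u⟩ : ↥N))
    calc (c : ↥P)⁻¹ * u * (a.toMul : ↥P) * ((c : ↥P)⁻¹ * u)⁻¹
        = (c : ↥P)⁻¹ * ((u * (a.toMul : ↥P) * u⁻¹) * c) := by group
      _ = u * (a.toMul : ↥P) * u⁻¹ := by rw [← hcomm, inv_mul_cancel_left]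
  haveI : Nontrivial (Additive ↥N) := by
    haveI : Nontrivial ↥N := (Subgroup.nontrivial_iff_ne_bot N).2 hN0
    infer_instance
  have hirr : IsIrr ↥(stabilizer ↥P x₀) (Additive ↥N) := by
    refine ⟨inferInstance, fun W hW => ?_⟩
    by_cases hW0 : W = ⊥
    · exact Or.inl hW0
    right
    let W' : Subgroup ↥P := (AddSubgroup.toSubgroup' W).map N.subtype
    have hn : W'.Normal := ⟨by
      rintro _ ⟨a, ha, rfl⟩ u
      obtain ⟨h, hh⟩ := hconj u
      exact ⟨(h • Additive.ofMul a).toMul, hW h (Additive.ofMul a) ha, hh (Additive.ofMul a)⟩⟩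
    have h0 : W' ≠ ⊥ := fun h => hW0 <| (AddSubgroup.eq_bot_iff_forall W).2 fun a ha => by
      have : ((a.toMul : ↥N) : ↥P) ∈ W' := ⟨a.toMul, ha, rfl⟩
      rw [h, Subgroup.mem_bot] at this
      exact congrArg Additive.ofMul (Subtype.ext this : a.toMul = 1)
    have hle : W' ≤ N := Subgroup.map_subtype_le _
    have hWc : IsMulCommutative ↥W' := ⟨⟨fun x y => Subtype.ext
      (congrArg Subtype.val (mul_comm' (⟨(x : ↥P), hle x.2⟩ : ↥N) ⟨y, hle y.2⟩) : _)⟩⟩
    have hall : W' = N := Subgroup.eq_of_le_of_card_ge hle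
      ((Nat.card_eq_of_bijective _ (hreg W' hn h0 hWc)).trans hNX.symm).ge
    refine eq_top_iff.2 fun a _ => ?_
    obtain ⟨c, hc, hca⟩ := (hall.symm ▸ (a.toMul).2 : ((a.toMul : ↥N) : ↥P) ∈ W')
    have hca' : c = a.toMul := Subtype.ext hca
    rw [hca'] at hc
    exact hc
  -- exponent
  have hne1 : Nat.card (Additive ↥N) ≠ 1 := (Finite.one_lt_card_iff_nontrivial.2 inferInstance).ne'
  obtain ⟨p, hp, hpd⟩ := Nat.exists_prime_and_dvd hne1
  haveI : Fact p.Prime := ⟨hp⟩
  obtain ⟨w, hw⟩ := exists_prime_addOrderOf_dvd_card' p hpd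
  let U : AddSubgroup (Additive ↥N) := (nsmulAddMonoidHom p : Additive ↥N →+ Additive ↥N).ker
  have hmem : ∀ v, v ∈ U ↔ p • v = 0 := fun v => Iff.rfl
  have hexp : ∀ v : Additive ↥N, p • v = 0 := by
    rcases hirr.2 U (fun g v hv => by rw [hmem] at hv ⊢; rw [smul_comm, hv, smul_zero]) with h | h
    · have : w = 0 := AddSubgroup.mem_bot.1 (h ▸ (hmem w).2 (hw ▸ addOrderOf_nsmul_eq_zero w))
      rw [this, addOrderOf_zero] at hw
      exact absurd hw.symm hp.ne_one
    · exact fun v => (hmem v).1 (h ▸ AddSubgroup.mem_top v)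
  obtain ⟨k, hk⟩ := exists_pow_of_exponent hp hexp
  refine ⟨p, k, hp, hk.symm.trans ((Nat.card_congr Additive.toMul).trans hNX), fun x hx => ?_⟩
  have hd := hx ↥(stabilizer ↥P x₀) (Additive ↥N) inferInstance hirr.isCR hk
  have hzero : derivedSeries ↥(stabilizer ↥P x₀) x = ⊥ := by
    refine (Subgroup.eq_bot_iff_forall _).2 fun h hh => Subtype.ext (eq_of_smul_eq_smul fun y : X => ?_)
    obtain ⟨a, rfl⟩ := hbij.2 y
    have h1 := congrArg Additive.toMul (hd h hh (Additive.ofMul a))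
    have h2 : (h : ↥P) * (a : ↥P) * (h : ↥P)⁻¹ = (a : ↥P) := by
      have := congrArg Subtype.val h1
      rwa [show ((h • Additive.ofMul a).toMul : ↥N) = MulAut.conjNormal (h : ↥P) a from rfl,
        MulAut.conjNormal_apply] at this
    show (h : ↥P) • (a : ↥P) • x₀ = (1 : ↥P) • (a : ↥P) • x₀
    rw [one_smul]
    conv_rhs => rw [← h2, mul_smul, mul_smul, inv_smul_eq_iff.2 (show (h : ↥P) • x₀ = x₀ from h.2).symm]
  have hNle : derivedSeries ↥P x ≤ N := by
    let q : ↥(stabilizer ↥P x₀) →* ↥P ⧸ N := (QuotientGroup.mk' N).comp (stabilizer ↥P x₀).subtype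
    have hq : Function.Surjective q := by
      intro z
      obtain ⟨u, rfl⟩ := QuotientGroup.mk'_surjective N z
      obtain ⟨c, hc⟩ := hbij.2 (u • x₀)
      refine ⟨⟨(c : ↥P)⁻¹ * u, by
        show ((c : ↥P)⁻¹ * u) • x₀ = x₀
        rw [mul_smul, inv_smul_eq_iff]; exact hc.symm⟩, ?_⟩
      show QuotientGroup.mk' N ((c : ↥P)⁻¹ * u) = QuotientGroup.mk' N u
      rw [map_mul, map_inv, show QuotientGroup.mk' N (c : ↥P) = 1 from
        (QuotientGroup.eq_one_iff _).2 c.2, inv_one, one_mul]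
    intro u hu
    have h1 : QuotientGroup.mk' N u ∈ derivedSeries (↥P ⧸ N) x :=
      map_derivedSeries_le_derivedSeries (QuotientGroup.mk' N) x ⟨u, hu, rfl⟩
    rw [← map_derivedSeries_eq hq, hzero, Subgroup.map_bot, Subgroup.mem_bot] at h1
    exact (QuotientGroup.eq_one_iff u).1 h1
  intro g hg y
  have h1 : π g ∈ derivedSeries ↥P (x + 1) := by
    rw [add_comm]
    exact map_derivedSeries_le_derivedSeries π (1 + x) ⟨g, hg, rfl⟩
  have h2 : derivedSeries ↥P (x + 1) = ⊥ := by
    rw [derivedSeries_succ, eq_bot_iff]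
    refine (Subgroup.commutator_mono hNle hNle).trans ?_
    rw [Subgroup.commutator_le]
    intro a ha b hb
    rw [Subgroup.mem_bot, commutatorElement_eq_one_iff_mul_comm]
    exact congrArg Subtype.val (mul_comm' (⟨a, ha⟩ : ↥N) ⟨b, hb⟩)
  rw [h2, Subgroup.mem_bot] at h1
  rw [← hπs, h1, one_smul]

end H89.Orbit
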