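import Cfsg.Agent.H89.Orbit.Table
import Cfsg.Agent.H35.OddBase.Small
import Cfsg.Agent.H35.OddBase.Primitive

/-!
The derived length table assembled.
-/

set_option autoImplicit false
set_option linter.style.haveILetI false
set_option linter.unusedSectionVars false
set_option synthInstance.maxSize 1024

namespace H89.Orbit

open H27.Orbit (DlActs DlBound HasSect SectData DlTable)
open H35.OddBase (IsCR IsIrr)

/-- A completely reducible group of order nine has exponent three. -/
theorem exponent_nine {G N : Type} [Group G] [AddCommGroup N] [Finite N] [DistribMulAction G N]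
    (hcr : IsCR G N) (hN : Nat.card N = 9) (v : N) : 3 • v = 0 := by
  haveI : Fact (Nat.Prime 3) := ⟨Nat.prime_three⟩
  let U : AddSubgroup N := (nsmulAddMonoidHom 3 : N →+ N).ker
  have hmem : ∀ x, x ∈ U ↔ 3 • x = 0 := fun x => Iff.rfl
  obtain ⟨W, -, hb, ht⟩ := hcr U (fun g x hx => by rw [hmem] at hx ⊢; rw [smul_comm, hx, smul_zero])
  by_cases hW : Nat.card ↥W = 1
  · rw [AddSubgroup.eq_bot_of_card_eq W hW, sup_bot_eq] at ht
    exact (hmem v).1 (ht ▸ AddSubgroup.mem_top v)
  exfalso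
  have h3 : 3 ∣ Nat.card ↥W := by
    obtain ⟨i, -, hi⟩ := (Nat.dvd_prime_pow Nat.prime_three).1
      (show Nat.card ↥W ∣ 3 ^ 2 by
        rw [show (3 : ℕ) ^ 2 = Nat.card N by rw [hN]; rfl]
        exact W.card_addSubgroup_dvd_card)
    rw [hi] at hW ⊢
    exact dvd_pow_self 3 fun h0 => hW (by rw [h0, pow_zero])
  obtain ⟨w, hw⟩ := exists_prime_addOrderOf_dvd_card' 3 h3
  have hwU : (w : N) ∈ U :=
    (hmem _).2 (by rw [← AddSubmonoidClass.coe_nsmul, ← hw, addOrderOf_nsmul_eq_zero]; rfl)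
  have hw0 : (w : N) = 0 := AddSubgroup.mem_bot.1 (hb.le ⟨hwU, w.2⟩)
  rw [show w = 0 from Subtype.ext hw0, addOrderOf_zero] at hw
  omega

/-- The exceptional section over the field of four elements. -/
theorem card_dvd_alt {G V : Type} [Group G] [Finite G] [AddCommGroup V] [Finite V]
    [DistribMulAction G V] (S : SectData G V) (he : S.e = 3) (hK : Nat.card S.K = 4) :
    Nat.card G ∣ 2592 := by
  haveI : Fact (Nat.Prime 3) := ⟨Nat.prime_three⟩
  have hN : Nat.card S.N = 9 := by rw [S.card_N, he]; norm_num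
  let ψ : ↥S.σ.ker →* Equiv.Perm S.N :=
    (MulAction.toPermHom G S.N).comp S.σ.ker.subtype
  letI : DistribMulAction ↥ψ.range S.N :=
    { smul := fun u x => (u : Equiv.Perm S.N) x
      one_smul := fun x => rfl
      mul_smul := fun u w x => rfl
      smul_zero := fun u => by
        obtain ⟨g, hg⟩ := u.2
        show (u : Equiv.Perm S.N) 0 = 0
        rw [← hg]
        exact smul_zero (g : G)
      smul_add := fun u x y => by
        obtain ⟨g, hg⟩ := u.2
        show (u : Equiv.Perm S.N) (x + y) = (u : Equiv.Perm S.N) x + (u : Equiv.Perm S.N) y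
        rw [← hg]
        exact smul_add (g : G) x y }
  haveI : FaithfulSMul ↥ψ.range S.N := ⟨fun {a b} h => Subtype.ext (Equiv.ext h)⟩
  have h48 : Nat.card ↥ψ.range ∣ 48 := by
    have h := H35.OddBase.card_dvd_GL (X := ↥ψ.range) (exponent_nine S.cr hN)
      (k := 2) (hN.trans (by norm_num))
    simpa [Fin.prod_univ_two] using h
  have hkerB : Nat.card ↥ψ.ker ∣ Nat.card ↥S.B := by
    have hle : ψ.ker.map S.σ.ker.subtype ≤ S.B := by
      rintro _ ⟨g, hg, rfl⟩
      exact S.ker_le g g.2 fun x => DFunLike.congr_fun (MonoidHom.mem_ker.1 hg) x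
    have := Subgroup.card_dvd_of_le hle
    rwa [Subgroup.card_map_of_injective S.σ.ker.subtype_injective] at this
  have hB : Nat.card ↥S.B ∣ 27 := by
    have h1 : Nat.card ↥S.B = Nat.card ↥S.A * S.A.relIndex S.B := by
      rw [← Nat.card_congr (Subgroup.subgroupOfEquivOfLe S.A_le).toEquiv]
      exact (Subgroup.card_mul_index _).symm
    rw [h1, S.relIndex, he, show (27 : ℕ) = 3 * 3 ^ 2 from rfl]
    exact Nat.mul_dvd_mul_right (by simpa [hK] using S.dvd_A) _
  have hker : Nat.card ↥S.σ.ker ∣ 27 * 48 := by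
    have h1 := Subgroup.card_mul_index ψ.ker
    rw [Subgroup.index_ker] at h1
    rw [← h1]
    exact Nat.mul_dvd_mul (hkerB.trans hB) h48
  have hrange : Nat.card ↥S.σ.range ∣ 2 := by
    haveI : Finite ↥S.σ.range := Finite.of_surjective _ S.σ.rangeRestrict_surjective
    have h := H35.OddBase.two_pow_card_range_le S.σ
    rw [hK, show (4 : ℕ) = 2 ^ 2 from rfl] at h
    have h2 := (Nat.pow_le_pow_iff_right (by norm_num)).1 h
    have : 0 < Nat.card ↥S.σ.range := Nat.card_pos
    interval_cases Nat.card ↥S.σ.range <;> norm_num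
  have h1 := Subgroup.card_mul_index S.σ.ker
  rw [Subgroup.index_ker] at h1
  rw [← h1, show (2592 : ℕ) = 27 * 48 * 2 from rfl]
  exact Nat.mul_dvd_mul hker hrange

/-- Sections of degree three over the field of four elements are the only exception. -/
theorem dl_two_six_alt (hS : HasSect) (G V : Type) [Group G] [Finite G] [AddCommGroup V] [Finite V]
    [DistribMulAction G V] [FaithfulSMul G V] (hs : Group.IsSolvable G) (hcr : IsCR G V)
    (hn : Nat.card V = 2 ^ 6) : DlActs G V 5 ∨ Nat.card G ∣ 2592 := by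
  haveI := hs
  haveI : Nontrivial V := Finite.one_lt_card_iff_nontrivial.1 (by rw [hn]; norm_num)
  have hred : ∀ j, j < 6 → DlBound 2 j 5 := fun j hj =>
    dlBound_mono (dl_two_six hS j (by omega)) (by interval_cases j <;> decide)
  by_cases hirr : IsIrr G V
  swap
  · refine Or.inl (dl_reducible hcr hirr fun W _ _ _ hW hWd hlt => ?_)
    obtain ⟨j, -, hj⟩ := (Nat.dvd_prime_pow Nat.prime_two).1 (hn ▸ hWd)
    rw [hj, hn] at hlt
    exact hred j ((Nat.pow_lt_pow_iff_right one_lt_two).1 hlt) G W hs hW hj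
  by_cases hp : H34.IsPrim (DistribMulAction.toAddMonoidEnd G V)
  swap
  · refine Or.inl (dl_imprimitive hs hirr hp Nat.prime_two hn ?_)
    intro m j hmj hm hj p k hp' hpk
    have hm6 : m ≤ 6 := hmj ▸ Nat.le_mul_of_pos_right m hj
    have hj3 : j ≤ 3 := by nlinarith
    refine ⟨px m, tTwo j, permBound_six hS m p k hm6 hp' hpk hm, dl_two_six hS j (by omega), ?_⟩
    have key : ∀ m ≤ 6, ∀ j ≤ 3, m * j = 6 → 1 + px m + tTwo j ≤ 5 := by decide
    exact key m hm6 j hj3 hmj
  obtain ⟨S⟩ := hS G V hs hirr hp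
  obtain ⟨f, d, hfd, hf1, hf, hd⟩ := exists_degrees S Nat.prime_two hn
  have hroot : rootB 2 f S.e = true :=
    rootB_of 2 f S.e fun s hs' hse => hf ▸ S.root s hs' hse
  have key : ∀ f ≤ 6, ∀ e ≤ 6, ∀ d ≤ 6, (f * d = 6 ∧ 1 ≤ e ∧ e ≤ d ∧ rootB 2 f e = true) →
      (f = 2 ∧ e = 3) ∨ (e = 1 ∧ fieldStep f + 1 ≤ 5) ∨ (e = 3 ∧ fieldStep f + 5 ≤ 5) := by
    decide +kernel
  have hd0 : 0 < d := by
    rcases Nat.eq_zero_or_pos d with rfl | h
    · simp at hfd
    · exact h
  have hfn : f ≤ 6 := hfd ▸ Nat.le_mul_of_pos_right f hd0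
  have hdn : d ≤ 6 := hfd ▸ Nat.le_mul_of_pos_left d hf1
  have he : S.e ≤ d := hd ▸ S.e_le
  rcases key f hfn S.e (by omega) d hdn ⟨hfd, e_pos S, he, hroot⟩ with ⟨rfl, he3⟩ | h | h
  · exact Or.inr (card_dvd_alt S he3 (by rw [hf]; norm_num))
  · exact Or.inl (dl_sect S Nat.prime_two hf (Or.inl h))
  · exact Or.inl (dl_sect S Nat.prime_two hf (Or.inr (Or.inl h)))

/-- The table. -/
theorem dlTable (hS : HasSect) : DlTable where
  anyTwo _ hr := dl_any_two hS hr
  twoTwo := dl_two_two hS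
  twoFour := dl_two_six hS 4 (by norm_num)
  twoSix := dl_two_six hS 6 le_rfl
  twoSixAlt G V _ _ _ _ _ _ hs hcr hn := dl_two_six_alt hS G V hs hcr hn
  twoEight := dl_two_fourteen hS 8 (by norm_num)
  threeFour := dl_three_four hS 4 le_rfl
  threeSix := dlBound_mono (dl_three_ten hS 6 (by norm_num)) (by decide)
  fiveFour := dlBound_mono (dl_any_six hS Nat.prime_five 4 (by norm_num)) (by decide)
  small _ _ hr ha h := dl_small hS hr ha h

end H89.Orbit
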