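import Cfsg.Agent.H89.Orbit.Step

/-!
The table of derived length bounds.
-/

set_option autoImplicit false
set_option linter.style.haveILetI false
set_option linter.unusedSectionVars false
set_option synthInstance.maxSize 1024

namespace H89.Orbit

open H27.Orbit (DlActs DlBound HasSect SectData DlTable)

/-- The derived length used for the point stabiliser of a primitive group of degree `m`. -/
def px (m : ℕ) : ℕ := if m = 2 then 0 else if m = 4 ∨ m = 8 then 2 else if m = 9 then 4 else 1

/-- The derived length used for a section of order `e ^ 2`. -/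
def xN (e : ℕ) : ℕ :=
  if e = 2 then 2 else if e = 4 then 3 else if e = 8 then 6 else if e = 9 then 5 else 4

/-- The bounds over any prime field. -/
def tAny (n : ℕ) : ℕ := [0, 1, 4, 5, 5, 6, 6].getD n 100

/-- The bounds over the field of two elements. -/
def tTwo (n : ℕ) : ℕ := [0, 0, 2, 2, 3, 3, 6, 6, 6, 6, 6, 6, 7, 7, 7].getD n 100

/-- The bounds over the field of three elements. -/
def tThree (n : ℕ) : ℕ := [0, 1, 4, 4, 5, 5, 6, 6, 8, 8, 8].getD n 100

/-- The divisibility condition on `e` and the field. -/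
def rootB (r f e : ℕ) : Bool :=
  [2, 3, 5, 7, 11, 13].all fun s => !(e % s == 0) || (r ^ f - 1) % s == 0

/-- The arithmetic of one step. -/
def stepB (T : ℕ → ℕ) (root : ℕ → ℕ → Bool) (L : List ℕ) (n b : ℕ) : Bool :=
  (List.range n).all (fun j => decide (T j ≤ b)) &&
  (List.range (n + 1)).all (fun m => (List.range (n + 1)).all fun j =>
    !(decide (2 ≤ m) && decide (1 ≤ j) && (m * j == n)) || decide (1 + px m + T j ≤ b)) &&
  (List.range (n + 1)).all (fun f => (List.range (n + 1)).all fun e =>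
    !(decide (1 ≤ f) && decide (1 ≤ e) && (n % f == 0) && decide (e ≤ n / f) && root f e) ||
      (decide (e = 1) && decide (fieldStep f + 1 ≤ b)) ||
      (decide (e = 3) && decide (fieldStep f + 5 ≤ b)) ||
      (L.contains e && decide (fieldStep f + (xN e + 2) ≤ b)))

/-- A bound for a section of order `e ^ 2`. -/
def SecBound (e : ℕ) : Prop :=
  ∀ s c : ℕ, s.Prime → 1 ≤ c → s ^ c ∣ e ^ 2 → DlBound s c (xN e)

/-- A bound for the point stabilisers of the primitive groups of degree at most `N`. -/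
def PermBound (N : ℕ) : Prop :=
  ∀ m p k : ℕ, m ≤ N → p.Prime → p ^ k = m → 2 ≤ m → DlBound p k (px m)

theorem dl_of_step (hS : HasSect) {r n b : ℕ} (hr : r.Prime) (T : ℕ → ℕ)
    (root : ℕ → ℕ → Bool) (L : List ℕ)
    (hroot : ∀ f e : ℕ, (∀ s : ℕ, s.Prime → s ∣ e → s ∣ r ^ f - 1) → root f e = true)
    (hT : ∀ j, j < n → DlBound r j (T j)) (hL : ∀ e ∈ L, SecBound e) (hP : PermBound n)
    (hchk : stepB T root L n b = true) : DlBound r n b := by
  simp only [stepB, Bool.and_eq_true, List.all_eq_true, List.mem_range, decide_eq_true_eq] at hchk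
  obtain ⟨⟨h1, h2⟩, h3⟩ := hchk
  refine dlBound_step hS hr (fun j hj => dlBound_mono (hT j hj) (h1 j hj))
    (fun m j hmj hm hj p k hp hpk => ?_) (fun f d e hfd hf he hed hs => ?_)
  · have hmn : m ≤ n := hmj ▸ Nat.le_mul_of_pos_right m hj
    have hjn : j < n := by nlinarith
    refine ⟨px m, T j, hP m p k hmn hp hpk hm, hT j hjn, ?_⟩
    have := h2 m (by omega) j (by omega)
    simpa [hm, hj, hmj] using this
  · have hfn : f ≤ n := hfd ▸ Nat.le_mul_of_pos_right f (by omega)
    have hdn : d ≤ n := hfd ▸ Nat.le_mul_of_pos_left d hf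
    have hdiv : n / f = d := by rw [← hfd, Nat.mul_div_cancel_left _ hf]
    have hmod : n % f = 0 := by rw [← hfd, Nat.mul_mod_right]
    have h4 := h3 f (by omega) e (by omega)
    simp [hf, he, hdiv, hmod, hed, hroot f e hs] at h4
    rcases h4 with (h4 | h4) | h4
    · exact Or.inl h4
    · exact Or.inr (Or.inl h4)
    · exact Or.inr (Or.inr ⟨xN e, hL e h4.1, h4.2⟩)

/-- The bounds up to `N`, one step at a time. -/
theorem dl_upto (hS : HasSect) {r : ℕ} (hr : r.Prime) (T : ℕ → ℕ)
    (root : ℕ → ℕ → Bool) (L : List ℕ) (N : ℕ)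
    (hroot : ∀ f e : ℕ, (∀ s : ℕ, s.Prime → s ∣ e → s ∣ r ^ f - 1) → root f e = true)
    (hL : ∀ e ∈ L, SecBound e) (hP : PermBound N) (lo : ℕ)
    (hlo : ∀ j, j < lo → DlBound r j (T j))
    (hchk : (List.range (N + 1)).all (fun n => decide (n < lo) || stepB T root L n (T n)) = true) :
    ∀ n, n ≤ N → DlBound r n (T n) := by
  intro n
  induction n using Nat.strong_induction_on with
  | _ n ih =>
    intro hn
    by_cases hlt : n < lo
    · exact hlo n hlt
    simp only [List.all_eq_true, List.mem_range, Bool.or_eq_true, decide_eq_true_eq] at hchk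
    exact dl_of_step hS hr T root L hroot (fun j hj => ih j hj (by omega)) hL
      (fun m p k hm => hP m p k (by omega)) ((hchk n (by omega)).resolve_left hlt)

theorem rootB_of (r f e : ℕ) (h : ∀ s : ℕ, s.Prime → s ∣ e → s ∣ r ^ f - 1) :
    rootB r f e = true := by
  simp only [rootB, List.all_eq_true]
  intro s hs
  have hp : s.Prime := by
    simp only [List.mem_cons, List.not_mem_nil, or_false] at hs
    rcases hs with rfl | rfl | rfl | rfl | rfl | rfl <;> norm_num
  by_cases hse : e % s = 0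
  · simp [Nat.mod_eq_zero_of_dvd _, Nat.dvd_iff_mod_eq_zero.1 (h s hp (Nat.dvd_of_mod_eq_zero hse))]
  · simp [hse]

/-- A group of order two is fixed pointwise. -/
theorem dl_two_one : DlBound 2 1 0 := by
  intro G V _ _ _ _ _ _ _ hn g _ x
  rw [pow_one] at hn
  haveI := Fintype.ofFinite V
  by_cases hx : x = 0
  · rw [hx, smul_zero]
  by_contra hne
  have h3 := Fintype.two_lt_card_iff.2 ⟨(0 : V), x, g • x, Ne.symm hx,
    fun e => hx (smul_left_cancel g (e.symm.trans (smul_zero g).symm)), Ne.symm hne⟩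
  rw [← Nat.card_eq_fintype_card, hn] at h3
  exact lt_irrefl _ h3

variable (hS : HasSect)

include hS

/-- Degree at most two. -/
theorem dl_one {r : ℕ} (hr : r.Prime) : DlBound r 1 1 :=
  dl_of_step hS hr (fun _ => 0) (fun _ _ => true) [] (fun _ _ _ => rfl)
    (fun j hj => by rw [show j = 0 by omega]; exact dlBound_zero r) (by simp)
    (fun m p k hm _ _ h2 => absurd hm (by omega)) (by decide +kernel)

theorem perm_prime {p k m : ℕ} (hp : p.Prime) (hpk : p ^ k = m) (hm : m.Prime) :
    DlBound p k (px m) := by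
  have hk : k = 1 := by
    by_contra hk
    rw [← hpk] at hm
    exact Nat.Prime.not_prime_pow' hk hm
  subst hk
  rw [pow_one] at hpk
  subst hpk
  by_cases h : p = 2
  · subst h; exact dl_two_one
  · have h4 : p ≠ 4 := fun e => absurd (e ▸ hp) (by norm_num)
    have h8 : p ≠ 8 := fun e => absurd (e ▸ hp) (by norm_num)
    have h9 : p ≠ 9 := fun e => absurd (e ▸ hp) (by norm_num)
    simp only [px, h, h4, h8, h9, or_self, if_false]
    exact dl_one hS hp

theorem permBound_three : PermBound 3 := by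
  intro m p k hm hp hpk h2
  interval_cases m
  · exact perm_prime hS hp hpk Nat.prime_two
  · exact perm_prime hS hp hpk Nat.prime_three

theorem dl_two_two : DlBound 2 2 2 :=
  dl_of_step hS Nat.prime_two tTwo (rootB 2) [] (rootB_of 2)
    (fun j hj => by interval_cases j; exacts [dlBound_zero 2, dl_two_one]) (by simp)
    (fun m p k hm => permBound_three hS m p k (by omega)) (by decide +kernel)

theorem secBound_two : SecBound 2 := by
  intro s c hs hc hd
  obtain rfl : s = 2 :=
    (Nat.prime_dvd_prime_iff_eq hs Nat.prime_two).1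
      (hs.dvd_of_dvd_pow ((dvd_pow_self s (by omega : c ≠ 0)).trans hd))
  have hc2 : c ≤ 2 := (Nat.pow_dvd_pow_iff_le_right (by norm_num)).1 hd
  interval_cases c
  exacts [dlBound_mono dl_two_one (by decide), dl_two_two hS]

theorem dl_any_two {r : ℕ} (hr : r.Prime) : DlBound r 2 4 :=
  dl_of_step hS hr tAny (fun _ _ => true) [2] (fun _ _ _ => rfl)
    (fun j hj => by interval_cases j; exacts [dlBound_zero r, dl_one hS hr])
    (by simpa using secBound_two hS)
    (fun m p k hm => permBound_three hS m p k (by omega)) (by decide +kernel)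

theorem permBound_six : PermBound 6 := by
  intro m p k hm hp hpk h2
  interval_cases m
  · exact perm_prime hS hp hpk Nat.prime_two
  · exact perm_prime hS hp hpk Nat.prime_three
  · have hp2 : p = 2 := by
      rcases Nat.eq_zero_or_pos k with rfl | hk
      · simp at hpk
      · exact (Nat.prime_dvd_prime_iff_eq hp Nat.prime_two).1
          (hp.dvd_of_dvd_pow (show p ∣ 2 ^ 2 by
            rw [show (2 : ℕ) ^ 2 = p ^ k by rw [hpk]; rfl]
            exact dvd_pow_self p (by omega)))
    subst hp2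
    obtain rfl : k = 2 := Nat.pow_right_injective le_rfl (show 2 ^ k = 2 ^ 2 from hpk)
    exact dl_two_two hS
  · exact perm_prime hS hp hpk Nat.prime_five
  · exfalso
    have h : IsPrimePow 6 := ⟨p, k, hp.prime, by
      rcases Nat.eq_zero_or_pos k with rfl | hk
      · simp at hpk
      · exact hk, hpk⟩
    obtain ⟨p', k', hp', hk', he⟩ := (isPrimePow_nat_iff _).1 h
    have h23 : 2 ∣ p' ^ k' ∧ 3 ∣ p' ^ k' := by rw [he]; norm_num
    have e2 := (Nat.prime_dvd_prime_iff_eq Nat.prime_two hp').1 (Nat.prime_two.dvd_of_dvd_pow h23.1)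
    have e3 := (Nat.prime_dvd_prime_iff_eq Nat.prime_three hp').1 (Nat.prime_three.dvd_of_dvd_pow h23.2)
    omega

theorem dl_two_six : ∀ n, n ≤ 6 → DlBound 2 n (tTwo n) :=
  dl_upto hS Nat.prime_two tTwo (rootB 2) [] 6 (rootB_of 2) (by simp) (permBound_six hS) 2
    (fun j hj => by interval_cases j; exacts [dlBound_zero 2, dl_two_one]) (by decide +kernel)

theorem secBound_four : SecBound 4 := by
  intro s c hs hc hd
  obtain rfl : s = 2 :=
    (Nat.prime_dvd_prime_iff_eq hs Nat.prime_two).1 (hs.dvd_of_dvd_pow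
      ((dvd_pow_self s (by omega : c ≠ 0)).trans (show s ^ c ∣ 2 ^ 4 from hd)))
  have hc2 : c ≤ 4 := (Nat.pow_dvd_pow_iff_le_right (by norm_num)).1 (show 2 ^ c ∣ 2 ^ 4 from hd)
  have hb : tTwo c ≤ xN 4 := by interval_cases c <;> decide
  exact dlBound_mono (dl_two_six hS c (by omega)) hb

theorem dl_three_four : ∀ n, n ≤ 4 → DlBound 3 n (tThree n) :=
  dl_upto hS Nat.prime_three tThree (rootB 3) [2, 4] 4 (rootB_of 3)
    (by simpa using And.intro (secBound_two hS) (secBound_four hS))
    (fun m p k hm => permBound_six hS m p k (by omega)) 2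
    (fun j hj => by interval_cases j; exacts [dlBound_zero 3, dl_one hS Nat.prime_three])
    (by decide +kernel)

/-- The prime powers met by sections and primitive groups, with their bounds. -/
theorem dl_known {s c : ℕ} (hs : s.Prime) {b : ℕ}
    (h : (s = 2 ∧ c ≤ 6 ∧ tTwo c ≤ b) ∨ (s = 3 ∧ c ≤ 4 ∧ tThree c ≤ b) ∨ (c = 1 ∧ 1 ≤ b) ∨
      (c = 2 ∧ 4 ≤ b)) : DlBound s c b := by
  rcases h with ⟨rfl, hc, hb⟩ | ⟨rfl, hc, hb⟩ | ⟨rfl, hb⟩ | ⟨rfl, hb⟩
  · exact dlBound_mono (dl_two_six hS c hc) hb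
  · exact dlBound_mono (dl_three_four hS c hc) hb
  · exact dlBound_mono (dl_one hS hs) hb
  · exact dlBound_mono (dl_any_two hS hs) hb

theorem secBound_all : ∀ e ∈ [2, 4, 5, 6, 7, 8, 9, 10, 11, 12, 13, 14], SecBound e := by
  have key : ∀ e ∈ [2, 4, 5, 6, 7, 8, 9, 10, 11, 12, 13, 14], ∀ s < 15, ∀ c < 9,
      1 ≤ c → Nat.Prime s → s ^ c ∣ e ^ 2 →
      ((s = 2 ∧ c ≤ 6 ∧ tTwo c ≤ xN e) ∨ (s = 3 ∧ c ≤ 4 ∧ tThree c ≤ xN e) ∨ (c = 1 ∧ 1 ≤ xN e) ∨
        (c = 2 ∧ 4 ≤ xN e)) := by decide +kernel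
  intro e he s c hs hc hd
  have he14 : e ≤ 14 ∧ 0 < e := by
    simp only [List.mem_cons, List.not_mem_nil, or_false] at he
    omega
  have hse : s ≤ e := Nat.le_of_dvd he14.2
    (hs.dvd_of_dvd_pow ((dvd_pow_self s (by omega : c ≠ 0)).trans hd))
  have hc8 : c < 9 := by
    by_contra h
    have h1 : 2 ^ c ≤ s ^ c := Nat.pow_le_pow_left hs.two_le c
    have h2 : s ^ c ≤ e ^ 2 := Nat.le_of_dvd (pow_pos he14.2 2) hd
    have h3 : 2 ^ 9 ≤ 2 ^ c := Nat.pow_le_pow_right (by norm_num) (by omega)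
    nlinarith
  exact dl_known hS hs (key e he s (by omega) c hc8 hc hs hd)

theorem permBound_all : PermBound 14 := by
  have key : ∀ m < 15, ∀ p < 15, ∀ k < 4, (2 ≤ m ∧ Nat.Prime p ∧ p ^ k = m) →
      ((p = 2 ∧ k ≤ 6 ∧ tTwo k ≤ px m) ∨ (p = 3 ∧ k ≤ 4 ∧ tThree k ≤ px m) ∨ (k = 1 ∧ 1 ≤ px m) ∨
        (k = 2 ∧ 4 ≤ px m)) := by decide +kernel
  intro m p k hm hp hpk h2
  have hk1 : 1 ≤ k := by
    by_contra h
    rw [show k = 0 by omega, pow_zero] at hpk
    omega
  have hp14 : p ≤ m := hpk ▸ Nat.le_self_pow (by omega) p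
  have hk4 : k < 4 := by
    by_contra h
    have h1 : 2 ^ 4 ≤ p ^ k :=
      (Nat.pow_le_pow_right (by norm_num) (by omega)).trans (Nat.pow_le_pow_left hp.two_le k)
    omega
  exact dl_known hS hp (key m (by omega) p (by omega) k hk4 ⟨h2, hp, hpk⟩)

theorem dl_any_six {r : ℕ} (hr : r.Prime) : ∀ n, n ≤ 6 → DlBound r n (tAny n) :=
  dl_upto hS hr tAny (fun _ _ => true) [2, 4, 5, 6, 7, 8, 9, 10, 11, 12, 13, 14] 6
    (fun _ _ _ => rfl) (secBound_all hS) (fun m p k hm => permBound_all hS m p k (by omega)) 2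
    (fun j hj => by interval_cases j; exacts [dlBound_zero r, dl_one hS hr]) (by decide +kernel)

theorem dl_two_fourteen : ∀ n, n ≤ 14 → DlBound 2 n (tTwo n) :=
  dl_upto hS Nat.prime_two tTwo (rootB 2) [2, 4, 5, 6, 7, 8, 9, 10, 11, 12, 13, 14] 14 (rootB_of 2)
    (secBound_all hS) (permBound_all hS) 2
    (fun j hj => by interval_cases j; exacts [dlBound_zero 2, dl_two_one]) (by decide +kernel)

theorem dl_three_ten : ∀ n, n ≤ 10 → DlBound 3 n (tThree n) :=
  dl_upto hS Nat.prime_three tThree (rootB 3) [2, 4, 5, 6, 7, 8, 9, 10, 11, 12, 13, 14] 10 (rootB_of 3)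
    (secBound_all hS) (fun m p k hm => permBound_all hS m p k (by omega)) 2
    (fun j hj => by interval_cases j; exacts [dlBound_zero 3, dl_one hS Nat.prime_three])
    (by decide +kernel)

theorem dl_small {r a : ℕ} (hr : r.Prime) (ha : 1 ≤ a) (h : r ^ a < 256) :
    DlBound r (2 * a) 8 := by
  by_cases h2 : r = 2
  · subst h2
    have ha7 : a ≤ 7 := by
      by_contra hh
      exact absurd h (not_lt.2 ((show 256 = 2 ^ 8 by norm_num).trans_le (Nat.pow_le_pow_right (by norm_num) (show 8 ≤ a by omega))))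
    exact dlBound_mono (dl_two_fourteen hS (2 * a) (by omega)) (by interval_cases a <;> decide)
  by_cases h3 : r = 3
  · subst h3
    have ha5 : a ≤ 5 := by
      by_contra hh
      have h6 : 3 ^ 6 ≤ 3 ^ a := Nat.pow_le_pow_right (by norm_num) (show 6 ≤ a by omega)
      norm_num at h6
      omega
    exact dlBound_mono (dl_three_ten hS (2 * a) (by omega)) (by interval_cases a <;> decide)
  have hr5 : 5 ≤ r := by
    have := hr.two_le
    have h4 : r ≠ 4 := fun e => absurd (e ▸ hr) (by norm_num)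
    omega
  have ha3 : a ≤ 3 := by
    by_contra hh
    have h4 : 5 ^ 4 ≤ r ^ a :=
      (Nat.pow_le_pow_left hr5 4).trans (Nat.pow_le_pow_right (by omega) (by omega))
    norm_num at h4
    omega
  exact dlBound_mono (dl_any_six hS hr (2 * a) (by omega)) (by interval_cases a <;> decide)

end H89.Orbit
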